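import Cfsg.Agent.H998.SpAlt.Lift

/-!
# Element orders of small alternating groups (helper998, for S3666)

* `gen k n` : the pairs (lcm, parity) of the cycle types with parts at most `k` and sum at most `n`;
* `alt_mem` : `(orderOf a, false) ∈ gen n n` for `a` in the alternating group of degree `n`;
* `alt_has` : the orders of the permutations of a given cycle type.
-/

set_option autoImplicit false

namespace Cfsg.Agent.H998.SpAlt

open Equiv Equiv.Perm

/-- (lcm, parity) of the multisets of numbers in `[2, k]` of sum at most `n` -/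
def gen : ℕ → ℕ → ℕ → List (ℕ × Bool)
  | 0, _, _ => [(1, false)]
  | f + 1, k, n =>
    bif k.blt 2 then [(1, false)] else
      gen f (k - 1) n ++ bif k.ble n then (gen f k (n - k)).map (fun x => (Nat.lcm k x.1, xor x.2 (k % 2 == 0))) else []

/-- the parity of a multiset of cycle lengths -/
def par (s : Multiset ℕ) : Bool := (s.sum + Multiset.card s) % 2 == 1

theorem par_cons (a : ℕ) (s : Multiset ℕ) : par (a ::ₘ s) = xor (par s) (a % 2 == 0) := by
  unfold par
  rw [Multiset.sum_cons, Multiset.card_cons]
  have h1 : (a + s.sum + (Multiset.card s + 1)) % 2 = ((s.sum + Multiset.card s) % 2 + (a % 2 + 1)) % 2 := by omega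
  rw [h1]
  rcases Nat.mod_two_eq_zero_or_one (s.sum + Multiset.card s) with h2 | h2 <;>
    rcases Nat.mod_two_eq_zero_or_one a with h3 | h3 <;> rw [h2, h3] <;> decide

theorem mem_gen : ∀ (f k n : ℕ), k + n ≤ f → ∀ s : Multiset ℕ, (∀ a ∈ s, 2 ≤ a ∧ a ≤ k) → s.sum ≤ n →
    (s.lcm, par s) ∈ gen f k n := by
  intro f
  induction f with
  | zero =>
    intro k n hkn s hs hsum
    have h1 : s = 0 := by
      rw [Multiset.eq_zero_iff_forall_notMem]
      intro a ha
      have := hs a ha
      omega
    rw [h1]
    exact List.mem_singleton.2 rfl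
  | succ f ih =>
    intro k n hkn s hs hsum
    unfold gen
    rcases Nat.lt_or_ge k 2 with hk | hk
    · have h1 : s = 0 := by
        rw [Multiset.eq_zero_iff_forall_notMem]
        intro a ha
        have := hs a ha
        omega
      have h2 : k.blt 2 = true := by rw [Nat.blt_eq]; exact hk
      rw [h1, h2]
      exact List.mem_singleton.2 rfl
    · have h2 : k.blt 2 = false := by
        rw [← Bool.not_eq_true, Nat.blt_eq]
        omega
      rw [h2, cond_false, List.mem_append]
      by_cases hks : k ∈ s
      · right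
        obtain ⟨t, rfl⟩ := Multiset.exists_cons_of_mem hks
        rw [Multiset.sum_cons] at hsum
        have h3 : k.ble n = true := by rw [Nat.ble_eq]; omega
        rw [h3, cond_true, List.mem_map]
        refine ⟨(t.lcm, par t), ih k (n - k) (by omega) t (fun a ha => hs a (Multiset.mem_cons_of_mem ha)) (by omega), ?_⟩
        rw [Multiset.lcm_cons, par_cons]
        rfl
      · left
        refine ih (k - 1) n (by omega) s (fun a ha => ⟨(hs a ha).1, ?_⟩) hsum
        have h3 := (hs a ha).2
        have h4 : a ≠ k := fun h => hks (h ▸ ha)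
        omega

theorem alt_mem {n : ℕ} (a : alternatingGroup (Fin n)) : (orderOf a, false) ∈ gen (n + n) n n := by
  have h1 : orderOf a = (cycleType (a : Perm (Fin n))).lcm := by rw [Equiv.Perm.lcm_cycleType, Subgroup.orderOf_coe]
  have hsum : (cycleType (a : Perm (Fin n))).sum ≤ n := by
    rw [Equiv.Perm.sum_cycleType]
    exact (Finset.card_le_univ _).trans (Fintype.card_fin n).le
  have h2 : par (cycleType (a : Perm (Fin n))) = false := by
    have h3 := Equiv.Perm.mem_alternatingGroup.1 a.2
    rw [Equiv.Perm.sign_of_cycleType] at h3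
    unfold par
    rcases Nat.mod_two_eq_zero_or_one ((cycleType (a : Perm (Fin n))).sum + Multiset.card (cycleType (a : Perm (Fin n))))
      with h4 | h4
    · rw [h4]; rfl
    · exfalso
      have h5 : Odd ((cycleType (a : Perm (Fin n))).sum + Multiset.card (cycleType (a : Perm (Fin n)))) :=
        Nat.odd_iff.2 h4
      rw [h5.neg_one_pow] at h3
      exact absurd h3 (by decide)
  have h3 := mem_gen (n + n) n n le_rfl (cycleType (a : Perm (Fin n))) (fun b hb => ⟨two_le_of_mem_cycleType hb, ?_⟩) hsum
  · rw [h1, ← h2]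
    exact h3
  · exact (Multiset.single_le_sum (fun _ _ => Nat.zero_le _) b hb).trans hsum

theorem alt_not {n m : ℕ} (h : ((gen (n + n) n n).all fun x => !(Nat.beq x.1 m) || x.2) = true) :
    ¬ ∃ a : alternatingGroup (Fin n), orderOf a = m := by
  rintro ⟨a, ha⟩
  have h1 := List.all_eq_true.1 h _ (alt_mem a)
  rw [ha] at h1
  simp at h1

theorem alt_has {n : ℕ} (s : Multiset ℕ) (hs : ∀ a ∈ s, 2 ≤ a) (hsum : s.sum ≤ n) (he : Even (s.sum + Multiset.card s)) :
    ∃ a : alternatingGroup (Fin n), orderOf a = s.lcm := by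
  obtain ⟨g, hg⟩ := (Equiv.Perm.exists_with_cycleType_iff (α := Fin n) (m := s)).2
    ⟨by rw [Fintype.card_fin]; exact hsum, hs⟩
  refine ⟨⟨g, ?_⟩, ?_⟩
  · rw [Equiv.Perm.mem_alternatingGroup, Equiv.Perm.sign_of_cycleType, hg, he.neg_one_pow]
  · rw [← Subgroup.orderOf_coe, ← Equiv.Perm.lcm_cycleType, hg]

end Cfsg.Agent.H998.SpAlt
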