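import Cfsg.Agent.H998.SpAlt.Lift

/-!
# From the structure `K, S` to a surjection with solvable kernel (helper998, for S3666)

`St G X` is the structure `Struct G X` of helper403 (H403/Reduce), repeated here to keep the closure small.
-/

set_option autoImplicit false
set_option linter.unusedSectionVars false

namespace Cfsg.Agent.H998.SpAlt

open Subgroup

universe u v

/-- the same as `Cfsg.Agent.H403.Struct` -/
def St (G : Type*) [Group G] (X : Type*) [Group X] : Prop :=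
  ∃ (K : Subgroup G) (_ : K.Normal) (S : Subgroup (G ⧸ K)) (_ : S.Normal), Group.IsSolvable ↥K ∧
    centralizer (S : Set (G ⧸ K)) = ⊥ ∧ Nonempty (↥S ≃* X) ∧
    ∀ p : ℕ, p.Prime → p ≠ 2 → p ∣ Nat.card G → (¬ ∃ x : G, orderOf x = 2 * p) →
      ∀ k : ℕ, p ^ k ∣ Nat.card G → p ^ k ∣ Nat.card X

/-- automorphisms of odd order are inner -/
def OI (X : Type*) [Group X] : Prop := ∀ φ : MulAut X, Odd (orderOf φ) → ∃ k : X, φ = MulAut.conj k

theorem OI.congr {X : Type u} {Y : Type v} [Group X] [Group Y] (e : X ≃* Y) (h : OI X) : OI Y := by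
  intro φ hφ
  obtain ⟨k, hk⟩ := h ((MulAut.congr e).symm φ) (by rw [MulEquiv.orderOf_eq]; exact hφ)
  refine ⟨e k, ?_⟩
  have h1 : φ = MulAut.congr e (MulAut.conj k) := by rw [← hk, MulEquiv.apply_symm_apply]
  rw [h1]
  ext y
  simp [MulAut.congr]

section

variable {G : Type u} [Group G] [Finite G] (K : Subgroup G) [K.Normal] (S : Subgroup (G ⧸ K)) [S.Normal]

omit [Finite G] in
theorem mem_of_odd (hC : centralizer (S : Set (G ⧸ K)) = ⊥) (hO : OI ↥S) {g : G ⧸ K} (hg : Odd (orderOf g)) :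
    g ∈ S := by
  let c : G ⧸ K →* MulAut ↥S := MulAut.conjNormal
  have h1 : Odd (orderOf (c g)) := by
    obtain ⟨m, hm⟩ := orderOf_map_dvd c g
    rw [hm] at hg
    exact (Nat.odd_mul.1 hg).1
  obtain ⟨s, hs⟩ := hO _ h1
  have h2 : (s : G ⧸ K)⁻¹ * g ∈ centralizer (S : Set (G ⧸ K)) := by
    rw [mem_centralizer_iff]
    intro y hy
    have h3 : ((c g ⟨y, hy⟩ : ↥S) : G ⧸ K) = ((MulAut.conj s ⟨y, hy⟩ : ↥S) : G ⧸ K) := by rw [hs]
    have h4 : ((c g ⟨y, hy⟩ : ↥S) : G ⧸ K) = g * y * g⁻¹ := MulAut.conjNormal_apply g ⟨y, hy⟩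
    rw [h4, MulAut.conj_apply, Subgroup.coe_mul, Subgroup.coe_mul, Subgroup.coe_inv] at h3
    calc y * ((s : G ⧸ K)⁻¹ * g) = (s : G ⧸ K)⁻¹ * ((s : G ⧸ K) * y * (s : G ⧸ K)⁻¹) * g := by group
      _ = (s : G ⧸ K)⁻¹ * (g * y * g⁻¹) * g := by rw [← h3]
      _ = _ := by group
  rw [hC, mem_bot, inv_mul_eq_one] at h2
  rw [← h2]
  exact s.2

/-- a prime whose full part of `|G|` divides `|S|` does not divide `|K|` -/
theorem not_dvd_K {r : ℕ} (hr : r.Prime) (h : ∀ k, r ^ k ∣ Nat.card G → r ^ k ∣ Nat.card ↥S) : ¬ r ∣ Nat.card ↥K := by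
  intro hK
  have hG : Nat.card G ≠ 0 := Nat.card_pos.ne'
  have h1 := h _ (Nat.ordProj_dvd (Nat.card G) r)
  have h3 : Nat.card ↥K * Nat.card ↥S ∣ Nat.card G := by
    have h1 : Nat.card G = Nat.card ↥K * Nat.card (G ⧸ K) := by
      rw [mul_comm]
      exact Subgroup.card_eq_card_quotient_mul_card_subgroup K
    rw [h1]
    exact Nat.mul_dvd_mul_left _ (Subgroup.card_subgroup_dvd_card S)
  have h2 : r ^ ((Nat.card G).factorization r + 1) ∣ Nat.card G := by
    rw [pow_succ']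
    exact (Nat.mul_dvd_mul hK h1).trans h3
  have h3 := (hr.pow_dvd_iff_le_factorization hG).1 h2
  omega

/-- elements of odd order prime to `|K|` -/
theorem has_S (hC : centralizer (S : Set (G ⧸ K)) = ⊥) (hO : OI ↥S) {m : ℕ} (hm : Odd m)
    (hcop : Nat.Coprime m (Nat.card ↥K)) (h : Has G m) : Has ↥S m := by
  obtain ⟨g, hg⟩ := h
  have h1 : orderOf (QuotientGroup.mk' K g) = m := by
    apply Nat.dvd_antisymm
    · rw [← hg]; exact orderOf_map_dvd _ _
    · have h2 := orderOf_dvd_mul_card (QuotientGroup.mk' K) g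
      rw [QuotientGroup.ker_mk', hg] at h2
      exact hcop.dvd_of_dvd_mul_right h2
  have h2 : QuotientGroup.mk' K g ∈ S := mem_of_odd K S hC hO (by rw [h1]; exact hm)
  exact ⟨⟨_, h2⟩, by rw [Subgroup.orderOf_mk, h1]⟩

/-- the preimage of `S` -/
theorem exists_surj {X : Type v} [Group X] (e : ↥S ≃* X) (hK : Group.IsSolvable ↥K) :
    ∃ (G0 : Subgroup G) (f : ↥G0 →* X), Function.Surjective f ∧ Group.IsSolvable ↥f.ker ∧ Nat.card f.ker = Nat.card ↥K := by
  let G0 : Subgroup G := S.comap (QuotientGroup.mk' K)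
  let f0 : ↥G0 →* ↥S := ((QuotientGroup.mk' K).comp G0.subtype).codRestrict S fun g => g.2
  have hf0 : Function.Surjective f0 := by
    rintro ⟨x, hx⟩
    obtain ⟨g, rfl⟩ := QuotientGroup.mk'_surjective K x
    exact ⟨⟨g, hx⟩, rfl⟩
  have hKG : K ≤ G0 := by
    intro k hk
    show QuotientGroup.mk' K k ∈ S
    rw [QuotientGroup.mk'_apply, (QuotientGroup.eq_one_iff k).2 hk]
    exact one_mem S
  let f : ↥G0 →* X := e.toMonoidHom.comp f0
  have hmem : ∀ g : ↥G0, g ∈ f.ker ↔ (g : G) ∈ K := by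
    intro g
    rw [MonoidHom.mem_ker]
    constructor
    · intro h
      have h1 : f0 g = 1 := (map_eq_one_iff e e.injective).1 h
      have h2 : (f0 g : G ⧸ K) = 1 := congrArg Subtype.val h1
      exact (QuotientGroup.eq_one_iff (g : G)).1 h2
    · intro h
      have h2 : f0 g = 1 := Subtype.ext ((QuotientGroup.eq_one_iff (g : G)).2 h)
      show e (f0 g) = 1
      rw [h2, map_one]
  let j : ↥f.ker →* ↥K := ((G0.subtype.comp f.ker.subtype)).codRestrict K fun g => (hmem g.1).1 g.2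
  have hj : Function.Injective j := by
    intro a b h
    have h1 : ((j a : ↥K) : G) = ((j b : ↥K) : G) := by rw [h]
    exact Subtype.ext (Subtype.ext h1)
  have hj' : Function.Surjective j := by
    rintro ⟨k, hk⟩
    exact ⟨⟨⟨k, hKG hk⟩, (hmem _).2 hk⟩, rfl⟩
  refine ⟨G0, f, e.surjective.comp hf0, Group.isSolvable_of_isSolvable_injective (f := j) hj,
    Nat.card_congr (Equiv.ofBijective j ⟨hj, hj'⟩)⟩

end

end Cfsg.Agent.H998.SpAlt
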