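import Cfsg.Agent.H998.SpAlt.JTwoDat
import Cfsg.Agent.H998.SpAlt.AltSpec
import Cfsg.Agent.H998.SpAlt.Pull
import Cfsg.Agent.CpAutTThree.JTwo

/-!
# S3666, the alternating group of degree 10 (helper998)
-/

set_option autoImplicit false

namespace Cfsg.Agent.H998.SpAlt

open Cfsg Subgroup

universe u v

theorem j2_no_twenty_one : ¬ Has Spor.J2 21 := by
  rintro ⟨g, hg⟩
  have h3 : orderOf (g ^ 7) = 3 := by
    rw [orderOf_pow' _ (by norm_num), hg]
    norm_num
  have h1 : g ∈ centralizer ({g ^ 7} : Set Spor.J2) := by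
    rw [mem_centralizer_singleton_iff]
    exact (Commute.refl g).pow_right 7
  have h2 := Subgroup.orderOf_dvd_natCard _ h1
  rw [hg] at h2
  rcases Cfsg.Agent.CpAutTThree.JTwo.card_three h3 with h | h
  · rw [h] at h2
    omega
  · rw [h] at h2
    omega

theorem card_isoJ2 {X : Type v} [Group X] (hX : Spor.IsoJ2 X) : Nat.card X = 604800 := by
  obtain ⟨e⟩ := hX
  rw [Nat.card_congr e.toEquiv]
  exact Cfsg.Agent.S1619.result.2.2.2

theorem simple_isoJ2 {X : Type v} [Group X] (hX : Spor.IsoJ2 X) : IsSimpleGroup X := by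
  obtain ⟨e⟩ := hX
  obtain ⟨f⟩ := Cfsg.Agent.J2.HundredGens.J2_iso Cfsg.Agent.S1619.result.2.2.2
  have := Cfsg.Agent.SporadicA.J2Hundred.simple
  exact (e.trans f).isSimpleGroup

theorem prime_le_of_has {n p : ℕ} (hp : p.Prime) (h : ∃ a : alternatingGroup (Fin n), orderOf a = p) : p ≤ n := by
  obtain ⟨a, ha⟩ := h
  have h1 : p ∣ Nat.card (Equiv.Perm (Fin n)) := by
    rw [← ha, ← Subgroup.orderOf_coe]
    exact orderOf_dvd_natCard _
  rw [Nat.card_eq_fintype_card, Fintype.card_perm, Fintype.card_fin] at h1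
  exact (hp.dvd_factorial).1 h1

/-- **S3666, degree 10.** -/
theorem ten_false {G : Type u} [Group G] [Finite G]
    (h : ∀ m, (∃ g : G, orderOf g = m) ↔ ∃ a : alternatingGroup (Fin 10), orderOf a = m) {X : Type v} [Group X]
    (hX : Spor.IsoJ2 X) (hO : OI X) (hst : St G X) : False := by
  have hcard := card_isoJ2 hX
  have hsimple := simple_isoJ2 hX
  have hfin : Finite X := Nat.finite_of_card_ne_zero (by rw [hcard]; norm_num)
  have hno : ∀ m, ((gen (10 + 10) 10 10).all fun x => !(Nat.beq x.1 m) || x.2) = true → ¬ Has G m := by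
    intro m hm hh
    exact alt_not hm ((h m).1 hh)
  have h14 : ¬ Has G 14 := hno 14 (by decide +kernel)
  have h21 : Has G 21 := by
    refine (h 21).2 ?_
    exact alt_has (n := 10) {7, 3} (by decide) (by decide) (by decide)
  obtain ⟨K, hKn, S, hSn, hKs, hC, ⟨e⟩, hd⟩ := hst
  have hXS : Nat.card ↥S = Nat.card X := Nat.card_congr e.toEquiv
  -- `7 ∤ |K|`
  have h7K : ¬ 7 ∣ Nat.card ↥K := by
    refine not_dvd_K K S (by norm_num) fun k hk => ?_
    rw [hXS]
    refine hd 7 (by norm_num) (by norm_num) ?_ h14 k hk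
    obtain ⟨g, hg⟩ := h21
    have h1 := orderOf_dvd_natCard g
    rw [hg] at h1
    exact (by norm_num : 7 ∣ 21).trans h1
  have h3K : 3 ∣ Nat.card ↥K := by
    by_contra h3
    have h1 : Nat.Coprime 21 (Nat.card ↥K) := by
      have : (21 : ℕ) = 3 * 7 := by norm_num
      rw [this]
      exact Nat.Coprime.mul_left ((Nat.Prime.coprime_iff_not_dvd Nat.prime_three).2 h3)
        ((Nat.Prime.coprime_iff_not_dvd (by norm_num)).2 h7K)
    obtain ⟨s, hs⟩ := has_S K S hC (hO.congr e.symm) (by decide) h1 h21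
    obtain ⟨e'⟩ := hX
    exact j2_no_twenty_one ⟨e' (e s), by rw [MulEquiv.orderOf_eq, MulEquiv.orderOf_eq, hs]⟩
  obtain ⟨G0, f, hf, hsol, hker⟩ := exists_surj K S e hKs
  have hG0 : ∀ {m : ℕ}, ¬ Has G m → ¬ Has ↥G0 m := by
    rintro m hm ⟨g, hg⟩
    exact hm ⟨(g : G), by rw [Subgroup.orderOf_coe, hg]⟩
  refine jtwo_core (dj2_of_iso hX) f hf hsol (by rw [hker]; exact h3K) ?_ (hG0 h14) (hG0 (hno 20 (by decide +kernel)))
    (hG0 (hno 30 (by decide +kernel))) (hG0 (hno 18 (by decide +kernel))) (hG0 (hno 35 (by decide +kernel)))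
    (hG0 (hno 24 (by decide +kernel)))
  intro p hp hpd
  rw [hker] at hpd
  have h1 : p ∣ Nat.card G := hpd.trans (Subgroup.card_subgroup_dvd_card K)
  have := Fact.mk hp
  obtain ⟨g, hg⟩ := exists_prime_orderOf_dvd_card' p h1
  have h2 : p ≤ 10 := prime_le_of_has hp ((h p).1 ⟨g, hg⟩)
  by_contra h5
  have h6 : p = 7 := by
    interval_cases p <;> first | rfl | (exfalso; revert hp; norm_num)
  exact h7K (h6 ▸ hpd)

end Cfsg.Agent.H998.SpAlt
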