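import Cfsg.Agent.H998.SpAlt.Lift

/-!
# The action on a normal abelian `s`-subgroup, norms (helper998, for S3666)
-/

set_option autoImplicit false

namespace Cfsg.Agent.H998.SpAlt

open Subgroup

universe u v

/-- the conjugation action on an abelian normal subgroup, written additively -/
theorem exists_act {G : Type u} [Group G] (V : Subgroup G) [V.Normal] (hc : ∀ a ∈ V, ∀ b ∈ V, a * b = b * a) :
    ∃ (A : Type u) (_ : AddCommGroup A) (ρ : G →* AddMonoid.End A) (ι : A → G), Function.Injective ι ∧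
      (∀ a, ι a ∈ V) ∧ (∀ v ∈ V, ∃ a, ι a = v) ∧ (∀ a b, ι (a + b) = ι a * ι b) ∧
      ∀ g a, ι (ρ g a) = g * ι a * g⁻¹ := by
  let _i : CommGroup ↥V := { (inferInstance : Group ↥V) with
    mul_comm := fun a b => Subtype.ext (hc a a.2 b b.2) }
  let ρ : G →* AddMonoid.End (Additive ↥V) :=
    { toFun := fun g => (MulAut.conjNormal g : ↥V ≃* ↥V).toMonoidHom.toAdditive
      map_one' := by
        ext a
        rw [map_one]
        rfl
      map_mul' := fun g h => by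
        ext a
        rw [map_mul]
        rfl }
  refine ⟨Additive ↥V, inferInstance, ρ, fun a => ((Additive.toMul a : ↥V) : G), ?_, ?_, ?_, ?_, ?_⟩
  · intro a b h
    exact Additive.toMul.injective (Subtype.ext h)
  · intro a
    exact (Additive.toMul a).2
  · intro v hv
    exact ⟨Additive.ofMul ⟨v, hv⟩, rfl⟩
  · intro a b
    rfl
  · intro g a
    rfl

section Ring

variable {R : Type*} [Ring R] {G : Type*} [Group G] (ρ : G →* R)

/-- the norm element -/
def nm (g : G) (m : ℕ) : R := ∑ i ∈ Finset.range m, ρ g ^ i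

/-- **Frobenius groups and norms.** -/
theorem frob_norm {T : Subgroup G} [Fintype T] {x : G} {m : ℕ} (hm : 1 ≤ m) (hn : ∀ a ∈ T, x * a * x⁻¹ ∈ T)
    (hfpf : ∀ i, 0 < i → i < m → ∀ a ∈ T, x ^ i * a * (x ^ i)⁻¹ = a → a = 1) (h0 : nm ρ x m = 0) :
    ∑ a : T, ρ (a : G) = (Fintype.card T : R) := by
  have hpow : ∀ i : ℕ, ∀ a ∈ T, x ^ i * a * (x ^ i)⁻¹ ∈ T := by
    intro i
    induction i with
    | zero => intro a ha; simpa using ha
    | succ i ih =>
      intro a ha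
      have e : x ^ (i + 1) * a * (x ^ (i + 1))⁻¹ = x * (x ^ i * a * (x ^ i)⁻¹) * x⁻¹ := by rw [pow_succ']; group
      rw [e]
      exact hn _ (ih a ha)
  -- for `0 < i < m` the map `a ↦ a x^i a⁻¹ x^-i` is a bijection
  have key : ∀ i, 0 < i → i < m → ∑ a : T, ρ (a : G) * ρ x ^ i * ρ ((a : G)⁻¹) = (∑ a : T, ρ (a : G)) * ρ x ^ i := by
    intro i hi him
    let φ : T → T := fun a => a * ⟨x ^ i * (a : G)⁻¹ * (x ^ i)⁻¹, hpow i _ (T.inv_mem a.2)⟩
    have hφ : Function.Injective φ := by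
      intro a b hab
      have h1 : (a : G) * (x ^ i * (a : G)⁻¹ * (x ^ i)⁻¹) = (b : G) * (x ^ i * (b : G)⁻¹ * (x ^ i)⁻¹) :=
        congrArg Subtype.val hab
      have h2 : x ^ i * ((b : G)⁻¹ * a) * (x ^ i)⁻¹ = (b : G)⁻¹ * a := by
        have h3 : (b : G)⁻¹ * ((a : G) * (x ^ i * (a : G)⁻¹ * (x ^ i)⁻¹)) * (x ^ i * (a : G) * (x ^ i)⁻¹) =
            (b : G)⁻¹ * ((b : G) * (x ^ i * (b : G)⁻¹ * (x ^ i)⁻¹)) * (x ^ i * (a : G) * (x ^ i)⁻¹) := by rw [h1]
        calc x ^ i * ((b : G)⁻¹ * a) * (x ^ i)⁻¹ =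
            (b : G)⁻¹ * ((b : G) * (x ^ i * (b : G)⁻¹ * (x ^ i)⁻¹)) * (x ^ i * (a : G) * (x ^ i)⁻¹) := by group
          _ = (b : G)⁻¹ * ((a : G) * (x ^ i * (a : G)⁻¹ * (x ^ i)⁻¹)) * (x ^ i * (a : G) * (x ^ i)⁻¹) := h3.symm
          _ = (b : G)⁻¹ * a := by group
      have h4 := hfpf i hi him _ (T.mul_mem (T.inv_mem b.2) a.2) h2
      exact Subtype.ext (inv_mul_eq_one.1 h4).symm
    have hbij : Function.Bijective φ := Finite.injective_iff_bijective.1 hφ
    rw [Finset.sum_mul]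
    rw [← Function.Bijective.sum_comp hbij (fun b : T => ρ (b : G) * ρ x ^ i)]
    refine Finset.sum_congr rfl fun a _ => ?_
    show ρ (a : G) * ρ x ^ i * ρ ((a : G)⁻¹) = ρ ((a : G) * (x ^ i * (a : G)⁻¹ * (x ^ i)⁻¹)) * ρ x ^ i
    rw [← map_pow, ← map_mul, ← map_mul, ← map_mul]
    congr 1
    group
  have h1 : ∑ a : T, ρ (a : G) * nm ρ x m * ρ ((a : G)⁻¹) = 0 := by
    rw [h0]
    simp
  have h2 : ∑ a : T, ρ (a : G) * nm ρ x m * ρ ((a : G)⁻¹) =
      (Fintype.card T : R) + ∑ i ∈ Finset.Ico 1 m, (∑ a : T, ρ (a : G)) * ρ x ^ i := by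
    unfold nm
    simp_rw [Finset.mul_sum, Finset.sum_mul]
    rw [Finset.sum_comm, Finset.range_eq_Ico, Finset.sum_eq_sum_Ico_succ_bot (by omega)]
    congr 1
    · have : ∀ a : T, ρ (a : G) * ρ x ^ 0 * ρ ((a : G)⁻¹) = 1 := fun a => by
        rw [pow_zero, mul_one, ← map_mul, mul_inv_cancel, map_one]
      rw [Finset.sum_congr rfl fun a _ => this a, Finset.sum_const, Finset.card_univ, nsmul_one]
    · refine Finset.sum_congr rfl fun i hi => ?_
      rw [Finset.mem_Ico] at hi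
      rw [key i (by omega) hi.2, Finset.sum_mul]
  have h3 : ∑ i ∈ Finset.Ico 1 m, (∑ a : T, ρ (a : G)) * ρ x ^ i = - ∑ a : T, ρ (a : G) := by
    rw [← Finset.mul_sum]
    have h4 : ∑ i ∈ Finset.Ico 1 m, ρ x ^ i = -1 := by
      have h5 : nm ρ x m = 1 + ∑ i ∈ Finset.Ico 1 m, ρ x ^ i := by
        unfold nm
        rw [Finset.range_eq_Ico, Finset.sum_eq_sum_Ico_succ_bot (by omega), pow_zero]
      rw [h0] at h5
      exact (eq_neg_of_add_eq_zero_right h5.symm)
    rw [h4, mul_neg, mul_one]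
  rw [h1, h3] at h2
  exact (sub_eq_zero.1 (by rw [sub_eq_add_neg]; exact h2.symm)).symm

/-- `T` acts trivially -/
theorem frob_trivial {s : ℕ} (hs : (s : R) = 0) {T : Subgroup G} [Fintype T] (hcop : (Fintype.card T).Coprime s)
    {x : G} {m : ℕ} (hm : 1 ≤ m)
    (hn : ∀ a ∈ T, x * a * x⁻¹ ∈ T) (hfpf : ∀ i, 0 < i → i < m → ∀ a ∈ T, x ^ i * a * (x ^ i)⁻¹ = a → a = 1)
    (h0 : nm ρ x m = 0) : ∀ a ∈ T, ρ a = 1 := by
  intro b hb
  have h1 := frob_norm ρ hm hn hfpf h0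
  have h2 : ρ b * ∑ a : T, ρ (a : G) = ∑ a : T, ρ (a : G) := by
    rw [Finset.mul_sum]
    let φ : T → T := fun a => ⟨b, hb⟩ * a
    have hφ : Function.Bijective φ := Group.mulLeft_bijective _
    rw [← Function.Bijective.sum_comp hφ (fun a : T => ρ (a : G))]
    refine Finset.sum_congr rfl fun a _ => ?_
    show ρ b * ρ (a : G) = ρ (b * (a : G))
    rw [map_mul]
  rw [h1] at h2
  -- `card T` is invertible
  obtain ⟨u, w, huw⟩ := (Nat.isCoprime_iff_coprime.2 hcop : IsCoprime ((Fintype.card T : ℕ) : ℤ) (s : ℤ))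
  have h3 : ((u : ℤ) : R) * (Fintype.card T : R) = 1 := by
    have h4 : ((u * (Fintype.card T : ℕ) + w * s : ℤ) : R) = 1 := by rw [huw, Int.cast_one]
    push_cast at h4
    rwa [hs, mul_zero, add_zero] at h4
  have h5 : (Fintype.card T : R) * ((u : ℤ) : R) = 1 := by
    rw [← h3]
    exact (Nat.cast_commute (Fintype.card T) ((u : ℤ) : R)).eq
  calc ρ b = ρ b * ((Fintype.card T : R) * ((u : ℤ) : R)) := by rw [h5, mul_one]
    _ = (ρ b * (Fintype.card T : R)) * ((u : ℤ) : R) := by rw [mul_assoc]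
    _ = 1 := by rw [h2, h5]

end Ring

section Norm

variable {G : Type u} [Group G] {V : Subgroup G} {s : ℕ} (hs : s.Prime)
  (he : ∀ v ∈ V, v ^ s = 1) {A : Type u} [AddCommGroup A] (ρ : G →* AddMonoid.End A) {ι : A → G}
  (h1 : Function.Injective ι) (h2 : ∀ a, ι a ∈ V) (h4 : ∀ a b, ι (a + b) = ι a * ι b)
  (h5 : ∀ g a, ι (ρ g a) = g * ι a * g⁻¹)

include h4 in
theorem iota_zero : ι 0 = 1 := by
  have h := h4 0 0
  rw [add_zero] at h
  exact (mul_eq_left.1 h.symm)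

include h4 h5 in
theorem iota_pow (g : G) (a : A) (m : ℕ) : (ι a * g) ^ m = ι (nm ρ g m a) * g ^ m := by
  induction m with
  | zero => rw [pow_zero, pow_zero, mul_one]; exact (iota_zero h4).symm
  | succ m ih =>
    have e : nm ρ g (m + 1) a = nm ρ g m a + (ρ g ^ m) a := by
      unfold nm
      rw [Finset.sum_range_succ]
      rfl
    rw [pow_succ, ih, e, h4, ← map_pow, h5, pow_succ]
    group

include hs he h1 h2 h4 h5 in
/-- **Norms and element orders.** -/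
theorem has_of_norm {g : G} {m : ℕ} (hg : g ^ m ∈ V) (hmin : ∀ k : ℕ, g ^ k ∈ V → m ∣ k) (hn : nm ρ g m ≠ 0) :
    Has G (m * s) := by
  have main : ∀ y : G, (∀ k : ℕ, y ^ k ∈ V → m ∣ k) → y ^ m ∈ V → y ^ m ≠ 1 → Has G (m * s) := by
    intro y hy hym hy1
    refine ⟨y, Nat.dvd_antisymm ?_ ?_⟩
    · apply orderOf_dvd_of_pow_eq_one
      rw [pow_mul]
      exact he _ hym
    · obtain ⟨c, hc⟩ := hy (orderOf y) (by rw [pow_orderOf_eq_one]; exact one_mem V)
      have h6 : (y ^ m) ^ c = 1 := by rw [← pow_mul, ← hc, pow_orderOf_eq_one]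
      have h7 : orderOf (y ^ m) = s := orderOf_eq_prime (he _ hym) hy1 (hp := ⟨hs⟩)
      have h8 : s ∣ c := h7 ▸ orderOf_dvd_of_pow_eq_one h6
      rw [hc]
      exact Nat.mul_dvd_mul_left m h8
  by_cases hg1 : g ^ m = 1
  · obtain ⟨a, ha⟩ : ∃ a, nm ρ g m a ≠ 0 := by
      by_contra hcon
      push Not at hcon
      exact hn (by ext a; exact hcon a)
    have hp := iota_pow ρ h4 h5 g a m
    refine main (ι a * g) ?_ ?_ ?_
    · intro k hk
      rw [iota_pow ρ h4 h5] at hk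
      exact hmin k ((V.mul_mem_cancel_left (h2 _)).1 hk)
    · rw [hp, hg1, mul_one]
      exact h2 _
    · rw [hp, hg1, mul_one]
      intro h
      exact ha (h1 (h.trans (iota_zero h4).symm))
  · exact main g hmin hg hg1

end Norm

end Cfsg.Agent.H998.SpAlt
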