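import Cfsg.Agent.H998.SpAlt.Layer

/-!
# Extensions of `J₂` by `2`-groups without elements of order 14, 20 (helper998, for S3666)

`f : G1 →* X` surjective with kernel a `2`-group.
* `cent_triv` : `C_M(y) = 1` for `y` of type 5A;
* `exists_frob` : a lift of a Frobenius group `p : n`.
-/

set_option autoImplicit false

namespace Cfsg.Agent.H998.SpAlt

open Subgroup

universe u v

section

variable {G1 : Type u} [Group G1] [Finite G1] {X : Type v} [Group X] {f : G1 →* X}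

theorem isPGroup_ker (h2 : ∀ p, p.Prime → p ≠ 2 → ¬ p ∣ Nat.card f.ker) : IsPGroup 2 ↥f.ker := by
  have : Fact (Nat.Prime 2) := ⟨Nat.prime_two⟩
  rw [IsPGroup.iff_card]
  refine ⟨_, Nat.eq_prime_pow_of_unique_prime_dvd Nat.card_pos.ne' fun {d} hd hdd => ?_⟩
  by_contra h
  exact h2 d hd h hdd

theorem not_dvd_ker (hM : IsPGroup 2 ↥f.ker) {p : ℕ} (hp : p.Prime) (hp2 : p ≠ 2) : ¬ p ∣ Nat.card f.ker := by
  have : Fact (Nat.Prime 2) := ⟨Nat.prime_two⟩
  obtain ⟨k, hk⟩ := (IsPGroup.iff_card).1 hM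
  rw [hk]
  intro h
  exact hp2 ((Nat.prime_dvd_prime_iff_eq hp Nat.prime_two).1 (hp.dvd_of_dvd_pow h))

/-- `2`-elements commuting with `y` commute with `C_M(y)` -/
theorem comm_two (hM : IsPGroup 2 ↥f.ker) (h20 : ¬ Has G1 20) {y d m : G1} (hy : orderOf y = 5)
    (hd : ∃ k : ℕ, d ^ 2 ^ k = 1) (hdy : d * y = y * d) (hm : m ∈ f.ker) (hmy : m * y = y * m) : d * m = m * d := by
  have : Fact (Nat.Prime 2) := ⟨Nat.prime_two⟩
  set C : Subgroup G1 := f.ker ⊓ centralizer {y} with hC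
  have hC2 : IsPGroup 2 ↥C := hM.to_le inf_le_left
  have hd2 : IsPGroup 2 ↥(zpowers d) := by
    obtain ⟨k, hk⟩ := hd
    rw [IsPGroup.iff_card]
    obtain ⟨j, -, hj⟩ := (Nat.dvd_prime_pow Nat.prime_two).1 (orderOf_dvd_of_pow_eq_one hk)
    exact ⟨j, by rw [Nat.card_zpowers, hj]⟩
  have hdn : zpowers d ≤ normalizer (C : Set G1) := by
    rw [zpowers_le, mem_normalizer_iff]
    intro z
    have h1 : ∀ z, z ∈ centralizer ({y} : Set G1) ↔ d * z * d⁻¹ ∈ centralizer ({y} : Set G1) := by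
      intro z
      rw [mem_centralizer_singleton_iff, mem_centralizer_singleton_iff]
      constructor
      · intro h
        calc d * z * d⁻¹ * y = d * z * (d⁻¹ * y * d) * d⁻¹ := by group
          _ = d * z * y * d⁻¹ := by rw [show d⁻¹ * y * d = y by rw [mul_assoc, ← hdy]; group]
          _ = d * (y * z) * d⁻¹ := by rw [← h]; group
          _ = y * (d * z * d⁻¹) := by rw [← mul_assoc, hdy]; group
      · intro h
        have h2 : d⁻¹ * (d * z * d⁻¹ * y) * d = d⁻¹ * (y * (d * z * d⁻¹)) * d := by rw [h]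
        have h3 : d⁻¹ * y * d = y := by rw [mul_assoc, ← hdy]; group
        calc z * y = z * (d⁻¹ * y * d) := by rw [h3]
          _ = d⁻¹ * (d * z * d⁻¹ * y) * d := by group
          _ = d⁻¹ * (y * (d * z * d⁻¹)) * d := h2
          _ = (d⁻¹ * y * d) * z := by group
          _ = y * z := by rw [h3]
    rw [hC, mem_inf, mem_inf, ← h1 z]
    refine and_congr_left fun _ => ⟨fun h => f.normal_ker.conj_mem z h d, fun h => ?_⟩
    have := f.normal_ker.conj_mem _ h d⁻¹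
    rwa [inv_inv, show d⁻¹ * (d * z * d⁻¹) * d = z by group] at this
  have hP : IsPGroup 2 ↥(C ⊔ zpowers d) := IsPGroup.to_sup_of_normal_left' hC2 hd2 hdn
  have hPy : C ⊔ zpowers d ≤ centralizer ({y} : Set G1) := by
    rw [sup_le_iff, zpowers_le, mem_centralizer_singleton_iff]
    exact ⟨inf_le_right, hdy⟩
  have hsq : ∀ u ∈ C ⊔ zpowers d, u * u = 1 := by
    intro u hu
    obtain ⟨k, hk⟩ := hP ⟨u, hu⟩
    have hk' : u ^ 2 ^ k = 1 := congrArg Subtype.val hk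
    obtain ⟨j, -, hj⟩ := (Nat.dvd_prime_pow Nat.prime_two).1 (orderOf_dvd_of_pow_eq_one hk')
    rcases Nat.lt_or_ge j 2 with h | h
    · have h3 : orderOf u ∣ 2 := by
        rw [hj]
        interval_cases j <;> norm_num
      rw [← sq]
      exact orderOf_dvd_iff_pow_eq_one.1 h3
    · exfalso
      apply h20
      have h3 : 4 ∣ orderOf u := by
        rw [hj]
        exact (pow_dvd_pow 2 h : 2 ^ 2 ∣ 2 ^ j)
      have h4 := has_mul (a := u) (b := y) (mem_centralizer_singleton_iff.1 (hPy hu)) h3 (dvd_of_eq hy.symm)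
        (by norm_num)
      exact h4
  have hdP : d ∈ C ⊔ zpowers d := mem_sup_right (mem_zpowers d)
  have hmP : m ∈ C ⊔ zpowers d := mem_sup_left ⟨hm, mem_centralizer_singleton_iff.2 hmy⟩
  have e1 := hsq d hdP
  have e2 := hsq m hmP
  have e3 := hsq _ (mul_mem hdP hmP)
  have e4 : d * m = (d * m)⁻¹ := eq_inv_of_mul_eq_one_left e3
  rw [e4, mul_inv_rev, ← eq_inv_of_mul_eq_one_left e1, ← eq_inv_of_mul_eq_one_left e2]

/-- lifts of involutions commuting with `y` -/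
theorem lift_two (hf : Function.Surjective f) (hM : IsPGroup 2 ↥f.ker) {y : G1} (hy : orderOf y = 5) {a0 : X}
    (ha : a0 * a0 = 1) (hc : a0 * f y = f y * a0) : ∃ a : G1, f a = a0 ∧ a * y = y * a ∧ ∃ k : ℕ, a ^ 2 ^ k = 1 := by
  obtain ⟨b, hb, hby⟩ := lift_conj f hf (by norm_num : Nat.Prime 5) (not_dvd_ker hM (by norm_num) (by norm_num)) hy hy
    (h0 := a0) (by rw [hc, mul_inv_cancel_right])
  have hby' : b * y = y * b := mul_inv_eq_iff_eq_mul.1 hby
  obtain ⟨k, r, hr, he⟩ := Nat.exists_eq_two_pow_mul_odd (n := orderOf b) (orderOf_pos b).ne'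
  refine ⟨b ^ r, ?_, ?_, k, ?_⟩
  · rw [map_pow, hb]
    obtain ⟨j, rfl⟩ := hr
    rw [pow_succ, pow_mul, sq, ha, one_pow, one_mul]
  · exact ((show Commute b y from hby').pow_left r).eq
  · rw [← pow_mul, mul_comm r, ← he, pow_orderOf_eq_one]

/-- **`C_M(y) = 1`** for `y` of type 5A. -/
theorem cent_triv (hf : Function.Surjective f) (hM : IsPGroup 2 ↥f.ker) (h20 : ¬ Has G1 20) (h14 : ¬ Has G1 14)
    {a0 b0 g0 c1 c2 d1 d2 : X} {i j : ℕ} {y : G1} (hy : orderOf y = 5)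
    (ha : a0 * a0 = 1) (hay : a0 * f y = f y * a0) (hb : b0 * b0 = 1) (hby : b0 * f y = f y * b0)
    (hg : g0 * f y * g0⁻¹ = f y ^ i * (a0 * b0) ^ j)
    (hc1 : c1 * c1 = 1) (hc1y : c1 * f y = f y * c1) (hc2 : c2 * c2 = 1) (hc2y : c2 * f y = f y * c2)
    (hd1 : d1 * d1 = 1) (hd1y : d1 * (f y ^ i * (a0 * b0) ^ j) = (f y ^ i * (a0 * b0) ^ j) * d1)
    (hd2 : d2 * d2 = 1) (hd2y : d2 * (f y ^ i * (a0 * b0) ^ j) = (f y ^ i * (a0 * b0) ^ j) * d2)
    (h7 : orderOf (c1 * c2 * (d1 * d2)) = 7) : ∀ m ∈ f.ker, m * y = y * m → m = 1 := by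
  have h5p : Nat.Prime 5 := by norm_num
  have h5k : ¬ 5 ∣ Nat.card f.ker := not_dvd_ker hM h5p (by norm_num)
  obtain ⟨a, hfa, haY, ha2⟩ := lift_two hf hM hy ha hay
  obtain ⟨b, hfb, hbY, hb2⟩ := lift_two hf hM hy hb hby
  have hord : orderOf (f y) = 5 := by
    rcases (Nat.dvd_prime h5p).1 (hy ▸ orderOf_map_dvd f y) with h | h
    · exfalso
      have h1 : y ∈ f.ker := MonoidHom.mem_ker.2 (orderOf_eq_one_iff.1 h)
      exact h5k (hy ▸ Subgroup.orderOf_dvd_natCard _ h1)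
    · exact h
  -- `y2`
  set y2' : G1 := y ^ i * (a * b) ^ j with hy2'
  have hfy2' : f y2' = f y ^ i * (a0 * b0) ^ j := by rw [hy2', map_mul, map_pow, map_pow, map_mul, hfa, hfb]
  have hord2 : orderOf (f y2') = 5 := by
    rw [hfy2', ← hg, ← hord]
    exact orderOf_injective (MulAut.conj g0).toMonoidHom (MulAut.conj g0).injective (f y)
  obtain ⟨j', hj1, hj2⟩ := exists_lift_pow f y2' hord2 ((Nat.Prime.coprime_iff_not_dvd h5p).2 h5k)
  set y2 : G1 := y2' ^ j' with hy2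
  have hC1 : ∀ m ∈ f.ker, m * y = y * m → m * y2 = y2 * m := by
    intro m hm hmy
    have h1 : Commute m a := (comm_two hM h20 hy ha2 haY hm hmy).symm
    have h2 : Commute m b := (comm_two hM h20 hy hb2 hbY hm hmy).symm
    have h3 : Commute m y := hmy
    have h4 : Commute m y2' := (h3.pow_right i).mul_right ((h1.mul_right h2).pow_right j)
    exact (h4.pow_right j').eq
  obtain ⟨g, hgf, hgy⟩ := lift_conj f hf h5p h5k hy hj2 (h0 := g0) (by rw [hj1, hfy2', hg])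
  -- the two centralizers
  have hC2 : ∀ m ∈ f.ker, m * y2 = y2 * m → m * y = y * m := by
    set C1 : Subgroup G1 := f.ker ⊓ centralizer {y} with hC1'
    set C2 : Subgroup G1 := f.ker ⊓ centralizer {y2} with hC2'
    have hle : C1 ≤ C2 := by
      rintro m ⟨hm, hmy⟩
      exact ⟨hm, mem_centralizer_singleton_iff.2 (hC1 m hm (mem_centralizer_singleton_iff.1 hmy))⟩
    have hmap : C2 ≤ C1.map (MulAut.conj g).toMonoidHom := by
      rintro m ⟨hm, hmy⟩
      have hmy' := mem_centralizer_singleton_iff.1 hmy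
      refine ⟨g⁻¹ * m * g, ⟨?_, mem_centralizer_singleton_iff.2 ?_⟩, ?_⟩
      · have := f.normal_ker.conj_mem m hm g⁻¹
        rwa [inv_inv] at this
      · rw [← hgy] at hmy'
        calc g⁻¹ * m * g * y = g⁻¹ * (m * (g * y * g⁻¹)) * g := by group
          _ = g⁻¹ * (g * y * g⁻¹ * m) * g := by rw [hmy']
          _ = y * (g⁻¹ * m * g) := by group
      · show g * (g⁻¹ * m * g) * g⁻¹ = m
        group
    have hcard : Nat.card C2 ≤ Nat.card C1 := by
      refine (Subgroup.card_le_of_le hmap).trans ?_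
      exact (Nat.card_congr (C1.equivMapOfInjective _ (MulAut.conj g).injective).symm.toEquiv).le
    have heq : C1 = C2 := Subgroup.eq_of_le_of_card_ge hle hcard
    intro m hm hmy
    have h1 : m ∈ C2 := ⟨hm, mem_centralizer_singleton_iff.2 hmy⟩
    rw [← heq] at h1
    exact mem_centralizer_singleton_iff.1 h1.2
  obtain ⟨e1, hfe1, he1y, he1⟩ := lift_two hf hM hy hc1 hc1y
  obtain ⟨e2, hfe2, he2y, he2⟩ := lift_two hf hM hy hc2 hc2y
  obtain ⟨e3, hfe3, he3y, he3⟩ := lift_two hf hM hj2 hd1 (by rw [hj1, hfy2']; exact hd1y)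
  obtain ⟨e4, hfe4, he4y, he4⟩ := lift_two hf hM hj2 hd2 (by rw [hj1, hfy2']; exact hd2y)
  intro m hm hmy
  have hmy2 := hC1 m hm hmy
  have k1 : Commute m e1 := (comm_two hM h20 hy he1 he1y hm hmy).symm
  have k2 : Commute m e2 := (comm_two hM h20 hy he2 he2y hm hmy).symm
  have k3 : Commute m e3 := (comm_two hM h20 hj2 he3 he3y hm hmy2).symm
  have k4 : Commute m e4 := (comm_two hM h20 hj2 he4 he4y hm hmy2).symm
  have k5 : Commute m (e1 * e2 * (e3 * e4)) := (k1.mul_right k2).mul_right (k3.mul_right k4)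
  have k6 : 7 ∣ orderOf (e1 * e2 * (e3 * e4)) := by
    have h1 := orderOf_map_dvd f (e1 * e2 * (e3 * e4))
    rwa [map_mul, map_mul, map_mul, hfe1, hfe2, hfe3, hfe4, h7] at h1
  by_contra hm1
  obtain ⟨k, hk⟩ := hM ⟨m, hm⟩
  have hk' : m ^ 2 ^ k = 1 := congrArg Subtype.val hk
  have h2m : 2 ∣ orderOf m := by
    obtain ⟨l, -, hl⟩ := (Nat.dvd_prime_pow Nat.prime_two).1 (orderOf_dvd_of_pow_eq_one hk')
    rw [hl]
    refine dvd_pow_self 2 ?_
    rintro rfl
    exact hm1 (orderOf_eq_one_iff.1 hl)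
  exact h14 (has_mul k5.eq h2m k6 (by norm_num))

/-- lifts of Frobenius groups -/
theorem exists_frob (hf : Function.Surjective f) (hM : IsPGroup 2 ↥f.ker) {p : ℕ} (hp : p.Prime) (hp2 : p ≠ 2)
    (h2p : ¬ Has G1 (2 * p)) {x0 h0 : X} {n k : ℕ} (hx : orderOf x0 = p) (hh : h0 ^ n = 1)
    (hc : h0 * x0 * h0⁻¹ = x0 ^ k) (hkn : k ^ n ≡ 1 [MOD p]) (hkp : p.Coprime k) :
    ∃ x h : G1, f x = x0 ∧ f h = h0 ∧ orderOf x = p ∧ h ^ n = 1 ∧ h * x * h⁻¹ = x ^ k := by
  have hpk := not_dvd_ker hM hp hp2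
  obtain ⟨x, hfx, hxo⟩ := exists_lift f hf hx ((Nat.Prime.coprime_iff_not_dvd hp).2 hpk)
  have hxk : orderOf (x ^ k) = p := by
    rw [Nat.Coprime.orderOf_pow (by rw [hxo]; exact hkp), hxo]
  obtain ⟨h, hfh, hhx⟩ := lift_conj f hf hp hpk hxo hxk (h0 := h0) (by rw [hfx, map_pow, hfx, hc])
  refine ⟨x, h, hfx, hfh, hxo, ?_, hhx⟩
  have hpow : ∀ l : ℕ, h ^ l * x * (h ^ l)⁻¹ = x ^ k ^ l := by
    intro l
    induction l with
    | zero => simp
    | succ l ih =>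
      have e : h ^ (l + 1) * x * (h ^ (l + 1))⁻¹ = h * (h ^ l * x * (h ^ l)⁻¹) * h⁻¹ := by rw [pow_succ']; group
      rw [e, ih, ← conj_pow, hhx, ← pow_mul, pow_succ']
  have h1 : h ^ n * x = x * h ^ n := by
    have h2 := hpow n
    have h3 : x ^ k ^ n = x := by
      conv_rhs => rw [← pow_one x]
      rw [pow_eq_pow_iff_modEq, hxo]
      exact hkn
    rw [h3, mul_inv_eq_iff_eq_mul] at h2
    exact h2
  have h2 : h ^ n ∈ f.ker := by rw [MonoidHom.mem_ker, map_pow, hfh, hh]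
  by_contra hne
  obtain ⟨l, hl⟩ := hM ⟨h ^ n, h2⟩
  have hl' : (h ^ n) ^ 2 ^ l = 1 := congrArg Subtype.val hl
  have h2m : 2 ∣ orderOf (h ^ n) := by
    obtain ⟨l', -, hl''⟩ := (Nat.dvd_prime_pow Nat.prime_two).1 (orderOf_dvd_of_pow_eq_one hl')
    rw [hl'']
    refine dvd_pow_self 2 ?_
    rintro rfl
    exact hne (orderOf_eq_one_iff.1 hl'')
  exact h2p (has_mul h1 h2m (dvd_of_eq hxo.symm) ((Nat.coprime_primes Nat.prime_two hp).2 hp2.symm))

end

end Cfsg.Agent.H998.SpAlt
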