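import Cfsg.Agent.H998.SpAlt.JTwoA

/-!
# `J₂` is not a composition factor over 3 of a group with the spectrum of `A₁₀` (helper998, for S3666)
-/

set_option autoImplicit false

namespace Cfsg.Agent.H998.SpAlt

open Subgroup

universe u v

/-! ### ring computations -/

/-- `A₄` -/
theorem ring_A4 {R : Type*} [Ring R] {T U W : R} (hT : T * T = 1) (hU : U * U = 1) (hTU : T * U = U * T)
    (hWT : W * T = U * W) (hWU : W * U = T * U * W) (h0 : 1 + W + W * W = 0) (h3 : (3 : R) = 0) : T = 1 := by
  have e1 : 1 + T * U * W + U * (W * W) = 0 := by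
    have h1 : T * (1 + W + W * W) * T = 0 := by rw [h0, mul_zero, zero_mul]
    have h2 : T * (1 + W + W * W) * T = 1 + T * U * W + U * (W * W) := by
      have a1 : T * W * T = T * U * W := by rw [mul_assoc, hWT, ← mul_assoc]
      have a2 : T * (W * W) * T = U * (W * W) := by
        calc T * (W * W) * T = T * W * (W * T) := by noncomm_ring
          _ = T * (W * U) * W := by rw [hWT]; noncomm_ring
          _ = (T * T) * U * W * W := by rw [hWU]; noncomm_ring
          _ = _ := by rw [hT]; noncomm_ring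
      calc T * (1 + W + W * W) * T = T * T + T * W * T + T * (W * W) * T := by noncomm_ring
        _ = _ := by rw [hT, a1, a2]
    rw [← h2, h1]
  have e2 : 1 + T * W + T * U * (W * W) = 0 := by
    have h1 : U * (1 + W + W * W) * U = 0 := by rw [h0, mul_zero, zero_mul]
    have a1 : U * (W * U) = T * W := by
      calc U * (W * U) = (U * T) * U * W := by rw [hWU]; noncomm_ring
        _ = T * (U * U) * W := by rw [← hTU]; noncomm_ring
        _ = _ := by rw [hU]; noncomm_ring
    have a2 : W * W * U = T * (W * W) := by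
      calc W * W * U = W * (W * U) := by noncomm_ring
        _ = W * T * (U * W) := by rw [hWU]; noncomm_ring
        _ = U * (W * U) * W := by rw [hWT]; noncomm_ring
        _ = _ := by rw [a1]; noncomm_ring
    have h2 : U * (1 + W + W * W) * U = 1 + T * W + T * U * (W * W) := by
      calc U * (1 + W + W * W) * U = U * U + U * (W * U) + U * (W * W * U) := by noncomm_ring
        _ = 1 + T * W + (U * T) * (W * W) := by rw [hU, a1, a2]; noncomm_ring
        _ = _ := by rw [hTU]
    rw [← h2, h1]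
  have e3 : 1 + U * W + T * (W * W) = 0 := by
    have h1 : T * U * (1 + W + W * W) * (T * U) = 0 := by rw [h0, mul_zero, zero_mul]
    have a0 : T * U * (T * U) = 1 := by
      calc T * U * (T * U) = T * (U * T) * U := by noncomm_ring
        _ = (T * T) * (U * U) := by rw [← hTU]; noncomm_ring
        _ = 1 := by rw [hT, hU, mul_one]
    have a1 : W * (T * U) = T * W := by
      calc W * (T * U) = W * T * U := by noncomm_ring
        _ = U * (W * U) := by rw [hWT]; noncomm_ring
        _ = (U * T) * U * W := by rw [hWU]; noncomm_ring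
        _ = T * (U * U) * W := by rw [← hTU]; noncomm_ring
        _ = _ := by rw [hU]; noncomm_ring
    have a2 : W * W * (T * U) = U * (W * W) := by
      calc W * W * (T * U) = W * (W * (T * U)) := by noncomm_ring
        _ = W * T * W := by rw [a1]; noncomm_ring
        _ = _ := by rw [hWT]; noncomm_ring
    have h2 : T * U * (1 + W + W * W) * (T * U) = 1 + U * W + T * (W * W) := by
      calc T * U * (1 + W + W * W) * (T * U) = T * U * (T * U) + T * U * (W * (T * U)) + T * U * (W * W * (T * U)) := by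
            noncomm_ring
        _ = 1 + (T * U) * T * W + T * (U * U) * (W * W) := by rw [a0, a1, a2]; noncomm_ring
        _ = 1 + U * (T * T) * W + T * (U * U) * (W * W) := by rw [hTU]; noncomm_ring
        _ = _ := by rw [hT, hU]; noncomm_ring
    rw [← h2, h1]
  have e8 : (4 : R) = 1 + 1 + 1 + 1 := by norm_num
  have e4 : 4 + (1 + T + U + T * U) * (W + W * W) = 0 := by
    rw [e8]
    calc (1 + 1 + 1 + 1) + (1 + T + U + T * U) * (W + W * W) =
        (1 + W + W * W) + (1 + T * U * W + U * (W * W)) + (1 + T * W + T * U * (W * W)) + (1 + U * W + T * (W * W)) := by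
          noncomm_ring
      _ = 0 := by rw [h0, e1, e2, e3]; simp
  have e5 : W + W * W = -1 := by
    have : 1 + (W + W * W) = 0 := by rw [← add_assoc]; exact h0
    exact (neg_eq_of_add_eq_zero_right this).symm
  rw [e5, mul_neg, mul_one, ← sub_eq_add_neg, sub_eq_zero] at e4
  have e6 : T * 4 = 4 := by
    calc T * 4 = T * (1 + T + U + T * U) := by rw [← e4]
      _ = T + T * T + T * U + (T * T) * U := by noncomm_ring
      _ = 1 + T + U + T * U := by rw [hT]; noncomm_ring
      _ = 4 := e4.symm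
  have e7 : (4 : R) = 1 := by
    have : (4 : R) = 3 + 1 := by norm_num
    rw [this, h3, zero_add]
  rw [e7, mul_one] at e6
  exact e6

section

variable {G1 : Type u} [Group G1] [Finite G1] {X : Type v} [Group X] {f : G1 →* X}

/-- the lifts of a part of `N(⟨y⟩)` -/
theorem exists_A5 (hf : Function.Surjective f) (hM : IsPGroup 2 ↥f.ker) {y : G1} (hy : orderOf y = 5)
    (hct : ∀ m ∈ f.ker, m * y = y * m → m = 1) {τ0 w0 t0 : X} (hτ : τ0 * τ0 = 1) (hτy : τ0 * f y * τ0⁻¹ = (f y)⁻¹)
    (hw : w0 * w0 * w0 = 1) (hwy : w0 * f y = f y * w0) (ht : t0 * t0 = 1) (hty : t0 * f y = f y * t0)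
    (h12 : t0 * (w0 * t0 * w0⁻¹) = (w0 * t0 * w0⁻¹) * t0)
    (h3 : w0 * (w0 * t0 * w0⁻¹) * w0⁻¹ = t0 * (w0 * t0 * w0⁻¹)) (hτw : τ0 * w0 = w0 * τ0) :
    ∃ τ w t : G1, f τ = τ0 ∧ f w = w0 ∧ f t = t0 ∧ τ * τ = 1 ∧ τ * y * τ⁻¹ = y⁻¹ ∧ w * w * w = 1 ∧ w * y = y * w ∧
      t * t = 1 ∧ t * y = y * t ∧ t * (w * t * w⁻¹) = (w * t * w⁻¹) * t ∧
      w * (w * t * w⁻¹) * w⁻¹ = t * (w * t * w⁻¹) ∧ τ * w = w * τ := by
  have h5p : Nat.Prime 5 := by norm_num
  have h5k : ¬ 5 ∣ Nat.card f.ker := not_dvd_ker hM h5p (by norm_num)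
  obtain ⟨τ, hfτ, e1⟩ := lift_conj f hf h5p h5k hy (x' := y⁻¹) (by rw [orderOf_inv, hy]) (h0 := τ0)
    (by rw [hτy, map_inv])
  obtain ⟨w, hfw, e2⟩ := lift_conj f hf h5p h5k hy hy (h0 := w0) (by rw [hwy, mul_inv_cancel_right])
  obtain ⟨t, hft, e3⟩ := lift_conj f hf h5p h5k hy hy (h0 := t0) (by rw [hty, mul_inv_cancel_right])
  have e2' : w * y = y * w := mul_inv_eq_iff_eq_mul.1 e2
  have e3' : t * y = y * t := mul_inv_eq_iff_eq_mul.1 e3
  set N : Subgroup G1 := normalizer (zpowers y : Set G1) with hN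
  have hNmem : ∀ n : G1, n * y * n⁻¹ ∈ zpowers y → n ∈ N := by
    intro n hn
    rw [hN, mem_normalizer_iff]
    have h1 : (zpowers y).map (MulAut.conj n).toMonoidHom = zpowers y := by
      refine Subgroup.eq_of_le_of_card_ge ?_ ?_
      · rw [Subgroup.map_le_iff_le_comap, zpowers_le]
        exact hn
      · exact (Nat.card_congr ((zpowers y).equivMapOfInjective _ (MulAut.conj n).injective).toEquiv).le
    intro h
    constructor
    · intro hh
      have h2 : (MulAut.conj n) h ∈ (zpowers y).map (MulAut.conj n).toMonoidHom := ⟨h, hh, rfl⟩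
      rw [h1] at h2
      exact h2
    · intro hh
      have h2 : n * h * n⁻¹ ∈ (zpowers y).map (MulAut.conj n).toMonoidHom := by rw [h1]; exact hh
      obtain ⟨h', hh', e⟩ := h2
      have : h' = h := (MulAut.conj n).injective e
      rwa [← this]
  have inj : ∀ u v : G1, u ∈ N → v ∈ N → f u = f v → u = v := by
    intro u v hu hv he
    have h1 : u * v⁻¹ ∈ f.ker := by rw [MonoidHom.mem_ker, map_mul, map_inv, he, mul_inv_cancel]
    have h2 : u * v⁻¹ ∈ N := mul_mem hu (inv_mem hv)
    have h3 : (u * v⁻¹) * y * (u * v⁻¹)⁻¹ ∈ zpowers y := (mem_normalizer_iff.1 h2 y).1 (mem_zpowers y)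
    set n := u * v⁻¹ with hn
    have h4 : n * y * n⁻¹ * y⁻¹ ∈ f.ker := by
      have : n * y * n⁻¹ * y⁻¹ = n * (y * n⁻¹ * y⁻¹) := by group
      rw [this]
      exact mul_mem h1 (f.normal_ker.conj_mem _ (inv_mem h1) y)
    have h5 : n * y * n⁻¹ * y⁻¹ ∈ zpowers y := mul_mem h3 (inv_mem (mem_zpowers y))
    have h6 : n * y * n⁻¹ * y⁻¹ = 1 := by
      have h7 := Subgroup.orderOf_dvd_natCard _ h5
      rw [Nat.card_zpowers, hy] at h7
      rcases (Nat.dvd_prime h5p).1 h7 with h8 | h8
      · exact orderOf_eq_one_iff.1 h8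
      · exact absurd (h8 ▸ Subgroup.orderOf_dvd_natCard _ h4) h5k
    have h7 : n * y = y * n := by
      rw [mul_inv_eq_one, mul_inv_eq_iff_eq_mul] at h6
      exact h6
    exact mul_inv_eq_one.1 (hct n h1 h7)
  have nτ : τ ∈ N := hNmem τ (by rw [e1]; exact inv_mem (mem_zpowers y))
  have nw : w ∈ N := hNmem w (by rw [e2]; exact mem_zpowers y)
  have nt : t ∈ N := hNmem t (by rw [e3]; exact mem_zpowers y)
  have nu : w * t * w⁻¹ ∈ N := mul_mem (mul_mem nw nt) (inv_mem nw)
  refine ⟨τ, w, t, hfτ, hfw, hft, ?_, e1, ?_, e2', ?_, e3', ?_, ?_, ?_⟩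
  · exact inj _ _ (mul_mem nτ nτ) (one_mem _) (by rw [map_mul, hfτ, hτ, map_one])
  · exact inj _ _ (mul_mem (mul_mem nw nw) nw) (one_mem _) (by rw [map_mul, map_mul, hfw, hw, map_one])
  · exact inj _ _ (mul_mem nt nt) (one_mem _) (by rw [map_mul, hft, ht, map_one])
  · exact inj _ _ (mul_mem nt nu) (mul_mem nu nt) (by simp only [map_mul, map_inv, hft, hfw]; exact h12)
  · exact inj _ _ (mul_mem (mul_mem nw nu) (inv_mem nw)) (mul_mem nt nu)
      (by simp only [map_mul, map_inv, hft, hfw]; exact h3)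
  · exact inj _ _ (mul_mem nτ nw) (mul_mem nw nτ) (by rw [map_mul, map_mul, hfτ, hfw, hτw])

end

section

variable {G : Type*} [Group G] {G1 : Type*} [Group G1]
  {A : Type*} [AddCommGroup A] {ρ : G1 →* AddMonoid.End A}

theorem ten_sum {B : AddMonoid.End A} {a b : A} (h1 : B a = b) (h2 : B b = a) :
    (∑ i ∈ Finset.range 10, B ^ i) a = 5 • (a + b) := by
  have h : ∀ n, (B ^ (2 * n)) a = a := by
    intro n
    induction n with
    | zero => rfl
    | succ n ih =>
      have e : 2 * (n + 1) = 2 * n + 2 := by ring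
      rw [e, pow_add]
      show (B ^ (2 * n)) ((B ^ 2) a) = a
      have : (B ^ 2) a = a := by
        rw [sq]
        show B (B a) = a
        rw [h1, h2]
      rw [this, ih]
  have h' : ∀ n, (B ^ (2 * n + 1)) a = b := by
    intro n
    rw [pow_succ']
    show B ((B ^ (2 * n)) a) = b
    rw [h, h1]
  have e : (∑ i ∈ Finset.range 10, B ^ i) a = ∑ i ∈ Finset.range 10, (B ^ i) a := by
    simp only [Finset.sum_range_succ, Finset.sum_range_zero]
    rfl
  rw [e]
  simp only [Finset.sum_range_succ, Finset.sum_range_zero]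
  rw [show (B ^ 0) a = a from rfl, h' 0, h 1, h' 1, h 2, h' 2, h 3, h' 3, h 4, h' 4]
  abel

/-- the case `s = 3` -/
theorem act_three (hA : ∀ a : A, 3 • a = 0) (hnm : ∀ g : G1, nm ρ g (orderOf g) ≠ 0 → Has G (orderOf g * 3))
    (h30 : ¬ Has G 30) (h18 : ¬ Has G 18) {y τ w t : G1} (hy : orderOf y = 5) (hτ : τ * τ = 1) (hτ1 : τ ≠ 1)
    (hτy : τ * y * τ⁻¹ = y⁻¹)
    (hw : w * w * w = 1) (hw1 : w ≠ 1) (hwy : w * y = y * w) (ht : t * t = 1) (ht1 : t ≠ 1) (hty : t * y = y * t)
    (h12 : t * (w * t * w⁻¹) = (w * t * w⁻¹) * t) (h3 : w * (w * t * w⁻¹) * w⁻¹ = t * (w * t * w⁻¹))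
    (hτw : τ * w = w * τ) : ρ t = 1 := by
  set u := w * t * w⁻¹ with hu
  have hu1 : u ≠ 1 := by
    intro h
    apply ht1
    have : w⁻¹ * u * w = t := by rw [hu]; group
    rw [← this, h]
    group
  have huu : u * u = 1 := by
    rw [hu, show w * t * w⁻¹ * (w * t * w⁻¹) = w * (t * t) * w⁻¹ by group, ht]
    group
  have huy : u * y = y * u := by
    have c1 : Commute w y := hwy
    have c2 : Commute t y := hty
    exact ((c1.mul_left c2).mul_left c1.inv_left).eq
  have htu1 : t * u ≠ 1 := by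
    rw [← h3]
    intro h
    apply hu1
    have : w⁻¹ * (w * u * w⁻¹) * w = u := by group
    rw [← this, h]
    group
  have htu2 : t * u * (t * u) = 1 := by
    calc t * u * (t * u) = t * (u * t) * u := by group
      _ = t * (t * u) * u := by rw [h12]
      _ = (t * t) * (u * u) := by group
      _ = 1 := by rw [ht, huu, one_mul]
  have htuy : t * u * y = y * (t * u) := by
    have c1 : Commute u y := huy
    have c2 : Commute t y := hty
    exact (c2.mul_left c1).eq
  -- fixed points of `y`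
  have inv_step : ∀ r : G1, r * r = 1 → r ≠ 1 → r * y = y * r → ∀ a : A, ρ y a = a → ρ r a = -a := by
    intro r hr hr1 hry a ha
    have hro : orderOf r = 2 := orderOf_eq_prime (by rw [sq]; exact hr) hr1 (hp := ⟨Nat.prime_two⟩)
    have ho : orderOf (r * y) = 10 := by
      rw [(show Commute r y from hry).orderOf_mul_eq_mul_orderOf_of_coprime (by rw [hro, hy]; norm_num), hro, hy]
    have h0 : nm ρ (r * y) 10 = 0 := by
      by_contra hne
      have := hnm (r * y) (by rw [ho]; exact hne)
      rw [ho] at this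
      exact h30 this
    have h1 : ρ (r * y) a = ρ r a := by
      rw [map_mul]
      show ρ r (ρ y a) = ρ r a
      rw [ha]
    have h2 : ρ (r * y) (ρ r a) = a := by
      have e : r * y * r = y := by rw [mul_assoc, ← hry, ← mul_assoc, hr, one_mul]
      have : ρ (r * y) (ρ r a) = ρ (r * y * r) a := by
        rw [map_mul ρ (r * y) r]
        rfl
      rw [this, e, ha]
    have h3 : 5 • (a + ρ r a) = 0 := by
      rw [← ten_sum h1 h2]
      have : (∑ i ∈ Finset.range 10, ρ (r * y) ^ i) = 0 := h0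
      rw [this]
      rfl
    have h4 := hA (a + ρ r a)
    have h5 : a + ρ r a = 0 := by
      have : a + ρ r a = 2 • (3 • (a + ρ r a)) - 5 • (a + ρ r a) := by abel
      rw [this, h3, h4, smul_zero, sub_zero]
    exact (neg_eq_of_add_eq_zero_right h5).symm
  have hfix : ∀ a : A, ρ y a = a → a = 0 := by
    intro a ha
    have e1 := inv_step t ht ht1 hty a ha
    have e2 := inv_step u huu hu1 huy a ha
    have e3 := inv_step (t * u) htu2 htu1 htuy a ha
    have e4 : ρ (t * u) a = a := by
      rw [map_mul]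
      show ρ t (ρ u a) = a
      rw [e2, map_neg, e1, neg_neg]
    rw [e4] at e3
    have e5 : a = 3 • a - (a + a) := by abel
    rw [e5, hA a, zero_sub, neg_eq_zero]
    nth_rewrite 1 [e3]
    abel
  -- the element `w`
  have hwo : orderOf w = 3 := orderOf_eq_prime (by rw [pow_succ, sq]; exact hw) hw1 (hp := ⟨Nat.prime_three⟩)
  have step : ∀ r : G1, r * r = 1 → r ≠ 1 → r * w = w * r → ∀ a : A, ρ r (a + ρ w a + ρ w (ρ w a)) =
      -(a + ρ w a + ρ w (ρ w a)) := by
    intro r hr hr1 hrw a
    have hro : orderOf r = 2 := orderOf_eq_prime (by rw [sq]; exact hr) hr1 (hp := ⟨Nat.prime_two⟩)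
    have ho : orderOf (r * w) = 6 := by
      rw [(show Commute r w from hrw).orderOf_mul_eq_mul_orderOf_of_coprime (by rw [hro, hwo]; norm_num), hro, hwo]
    have h0 : nm ρ (r * w) 6 = 0 := by
      by_contra hne
      have := hnm (r * w) (by rw [ho]; exact hne)
      rw [ho] at this
      exact h18 this
    have hR : ρ r * ρ r = 1 := by rw [← map_mul, hr, map_one]
    have hW : ρ w * ρ w * ρ w = 1 := by rw [← map_mul, ← map_mul, hw, map_one]
    have hRW : ρ r * ρ w = ρ w * ρ r := by rw [← map_mul, hrw, map_mul]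
    have h1 : nm ρ (r * w) 6 = (1 + ρ r) * (1 + ρ w + ρ w * ρ w) := by
      unfold nm
      simp only [Finset.sum_range_succ, Finset.sum_range_zero, map_mul]
      have c : Commute (ρ r) (ρ w) := hRW
      have p2 : (ρ r * ρ w) ^ 2 = ρ w * ρ w := by rw [c.mul_pow, sq, sq, hR, one_mul]
      have p3 : (ρ r * ρ w) ^ 3 = ρ r := by
        rw [c.mul_pow, pow_succ (ρ w), sq (ρ w), hW, mul_one, pow_succ, sq, hR, one_mul]
      have p4 : (ρ r * ρ w) ^ 4 = ρ w := by
        rw [show 4 = 3 + 1 from rfl, pow_succ, p3, ← mul_assoc, hR, one_mul]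
      have p5 : (ρ r * ρ w) ^ 5 = ρ r * (ρ w * ρ w) := by
        rw [show 5 = 3 + 2 from rfl, pow_add, p3, p2]
      rw [pow_zero, pow_one, p2, p3, p4, p5]
      noncomm_ring
    rw [h0] at h1
    have h2 : (a + ρ w a + ρ w (ρ w a)) + ρ r (a + ρ w a + ρ w (ρ w a)) = 0 := by
      have h3 := DFunLike.congr_fun h1.symm a
      exact h3
    exact (neg_eq_of_add_eq_zero_right h2).symm
  have hNW : ∀ a : A, a + ρ w a + ρ w (ρ w a) = 0 := by
    intro a
    apply hfix
    set c := a + ρ w a + ρ w (ρ w a) with hc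
    have e1 : ρ τ c = -c := step τ hτ hτ1 hτw a
    have hτy' : τ * y = y⁻¹ * τ := mul_inv_eq_iff_eq_mul.1 hτy
    have e2 : ρ (τ * y) c = -c := by
      refine step (τ * y) ?_ ?_ ?_ a
      · calc τ * y * (τ * y) = (τ * y) * τ * y := by group
          _ = y⁻¹ * (τ * τ) * y := by rw [hτy']; group
          _ = 1 := by rw [hτ]; group
      · intro h
        have h1 : y = τ⁻¹ := eq_inv_of_mul_eq_one_right h
        have h2 : orderOf y ∣ 2 := by
          rw [h1, orderOf_inv]
          exact orderOf_dvd_of_pow_eq_one (by rw [sq, hτ])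
        rw [hy] at h2
        omega
      · rw [mul_assoc, ← hwy, ← mul_assoc, hτw, mul_assoc]
    rw [map_mul] at e2
    have e3 : ρ τ (ρ y c) = -c := e2
    have e4 : ρ τ (ρ τ (ρ y c)) = ρ y c := by
      have : ρ τ * ρ τ = 1 := by rw [← map_mul, hτ, map_one]
      exact DFunLike.congr_fun this (ρ y c)
    rw [e3, map_neg, e1, neg_neg] at e4
    exact e4.symm
  -- the four-group
  refine ring_A4 (T := ρ t) (U := ρ u) (W := ρ w) (by rw [← map_mul, ht, map_one]) (by rw [← map_mul, huu, map_one])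
    (by rw [← map_mul, h12, map_mul]) ?_ ?_ ?_ ?_
  · rw [← map_mul, ← map_mul]
    congr 1
    rw [hu]
    group
  · rw [← map_mul, ← map_mul, ← map_mul, ← h3]
    congr 1
    group
  · ext a
    exact hNW a
  · ext a
    show ((3 : ℕ) : AddMonoid.End A) a = 0
    rw [AddMonoid.End.natCast_apply]
    exact hA a

end

end Cfsg.Agent.H998.SpAlt
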