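import Cfsg.Agent.H998.SpAlt.JTwoB

/-!
# The core of the case `n = 10` (helper998, for S3666)
-/

set_option autoImplicit false

namespace Cfsg.Agent.H998.SpAlt

open Subgroup

universe u v

/-- the data of `J₂` which are used -/
def DJ2 (X : Type*) [Group X] : Prop :=
  (∃ x h : X, orderOf x = 7 ∧ h ^ 6 = 1 ∧ h * x * h⁻¹ = x ^ 3) ∧
  (∃ (y a b g c1 c2 d1 d2 : X) (i j : ℕ), orderOf y = 5 ∧ a * a = 1 ∧ a * y = y * a ∧ b * b = 1 ∧ b * y = y * b ∧
    g * y * g⁻¹ = y ^ i * (a * b) ^ j ∧ c1 * c1 = 1 ∧ c1 * y = y * c1 ∧ c2 * c2 = 1 ∧ c2 * y = y * c2 ∧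
    d1 * d1 = 1 ∧ d1 * (y ^ i * (a * b) ^ j) = (y ^ i * (a * b) ^ j) * d1 ∧
    d2 * d2 = 1 ∧ d2 * (y ^ i * (a * b) ^ j) = (y ^ i * (a * b) ^ j) * d2 ∧ orderOf (c1 * c2 * (d1 * d2)) = 7 ∧
    ∃ τ w t : X, τ * τ = 1 ∧ τ ≠ 1 ∧ τ * y * τ⁻¹ = y⁻¹ ∧ w * w * w = 1 ∧ w ≠ 1 ∧ w * y = y * w ∧ t * t = 1 ∧ t ≠ 1 ∧
      t * y = y * t ∧ t * (w * t * w⁻¹) = (w * t * w⁻¹) * t ∧ w * (w * t * w⁻¹) * w⁻¹ = t * (w * t * w⁻¹) ∧
      τ * w = w * τ) ∧
  ∃ e : X, orderOf e = 8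

section

variable {G1 : Type*} [Group G1] {A : Type*} [AddCommGroup A] {ρ : G1 →* AddMonoid.End A}

/-- the order of the complement -/
theorem orderOf_frob {t : ℕ} {x h : G1} (hx : orderOf x = t) {m k : ℕ} (hm : 1 ≤ m) (hh : h ^ m = 1)
    (hc : h * x * h⁻¹ = x ^ k) (hk : ∀ i, 0 < i → i < m → ¬ k ^ i ≡ 1 [MOD t]) :
    orderOf h = m ∧ ∀ i, h ^ i * x * (h ^ i)⁻¹ = x ^ k ^ i := by
  have hpow : ∀ l : ℕ, h ^ l * x * (h ^ l)⁻¹ = x ^ k ^ l := by
    intro l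
    induction l with
    | zero => simp
    | succ l ih =>
      have e : h ^ (l + 1) * x * (h ^ (l + 1))⁻¹ = h * (h ^ l * x * (h ^ l)⁻¹) * h⁻¹ := by rw [pow_succ']; group
      rw [e, ih, ← conj_pow, hc, ← pow_mul, pow_succ']
  refine ⟨?_, hpow⟩
  have h1 : orderOf h ∣ m := orderOf_dvd_of_pow_eq_one hh
  have h2 : orderOf h ≤ m := Nat.le_of_dvd hm h1
  have h3 : 0 < orderOf h := Nat.pos_of_dvd_of_pos h1 hm
  by_contra hne
  have h4 : orderOf h < m := lt_of_le_of_ne h2 hne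
  apply hk _ h3 h4
  have h5 := hpow (orderOf h)
  rw [pow_orderOf_eq_one, one_mul, inv_one, mul_one] at h5
  have h6 : x ^ k ^ orderOf h = x ^ 1 := by rw [pow_one]; exact h5.symm
  rw [pow_eq_pow_iff_modEq, hx] at h6
  exact h6

/-- **Frobenius groups with cyclic kernel.** -/
theorem act_frob {s : ℕ} (hA : ∀ a : A, s • a = 0) {t : ℕ} (ht : t.Prime) (hts : t.Coprime s) {x h : G1}
    (hx : orderOf x = t) {m k : ℕ} (hm : 1 ≤ m) (hh : h ^ m = 1) (hc : h * x * h⁻¹ = x ^ k)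
    (hk : ∀ i, 0 < i → i < m → ¬ k ^ i ≡ 1 [MOD t]) (h0 : nm ρ h m = 0) : ρ x = 1 := by
  have hfin : Finite ↥(zpowers x) :=
    Nat.finite_of_card_ne_zero (by rw [Nat.card_zpowers, hx]; exact ht.ne_zero)
  have hft : Fintype ↥(zpowers x) := Fintype.ofFinite _
  have hcard : Fintype.card ↥(zpowers x) = t := by rw [← Nat.card_eq_fintype_card, Nat.card_zpowers, hx]
  obtain ⟨-, hpow⟩ := orderOf_frob hx hm hh hc hk
  have hs0 : ((s : ℕ) : AddMonoid.End A) = 0 := by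
    ext a
    rw [AddMonoid.End.natCast_apply]
    exact hA a
  refine frob_trivial ρ hs0 (T := zpowers x) (by rw [hcard]; exact hts) hm (x := h) ?_ ?_ h0 x (mem_zpowers x)
  · rintro _ ⟨j, rfl⟩
    show h * x ^ j * h⁻¹ ∈ zpowers x
    rw [← conj_zpow, hc]
    exact zpow_mem (pow_mem (mem_zpowers x) k) j
  · rintro i hi him _ ⟨j, rfl⟩ he
    have h1 : h ^ i * x ^ j * (h ^ i)⁻¹ = x ^ j := he
    rw [← conj_zpow, hpow] at h1
    show x ^ j = 1
    -- `x ^ (j (k ^ i - 1)) = 1`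
    have h2 : x ^ (((k ^ i : ℕ) : ℤ) * j - j) = 1 := by
      rw [zpow_sub, zpow_mul, zpow_natCast, h1, mul_inv_cancel]
    have h3 : (t : ℤ) ∣ (((k ^ i : ℕ) : ℤ) - 1) * j := by
      have := orderOf_dvd_iff_zpow_eq_one.2 h2
      rw [hx] at this
      have e : ((k ^ i : ℕ) : ℤ) * j - j = (((k ^ i : ℕ) : ℤ) - 1) * j := by ring
      rwa [e] at this
    rcases (Nat.prime_iff_prime_int.1 ht).dvd_or_dvd h3 with h4 | h4
    · exfalso
      apply hk i hi him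
      have h5 : (1 : ℤ) ≡ ((k ^ i : ℕ) : ℤ) [ZMOD t] := (Int.modEq_iff_dvd).2 h4
      exact ((Int.natCast_modEq_iff).1 (by exact_mod_cast h5)).symm
    · rw [← hx] at h4
      exact orderOf_dvd_iff_zpow_eq_one.1 h4

end

/-- **`J₂`** -/
theorem jtwo_core {G : Type u} [Group G] [Finite G] {X : Type v} [Group X] [IsSimpleGroup X] (hD : DJ2 X)
    (f : G →* X) (hf : Function.Surjective f) (hsol : Group.IsSolvable ↥f.ker) (h3 : 3 ∣ Nat.card f.ker)
    (hpr : ∀ p : ℕ, p.Prime → p ∣ Nat.card f.ker → p ≤ 5) (h14 : ¬ Has G 14) (h20 : ¬ Has G 20) (h30 : ¬ Has G 30)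
    (h18 : ¬ Has G 18) (h35 : ¬ Has G 35) (h24 : ¬ Has G 24) : False := by
  obtain ⟨G', _, _, q, f', V, s, hq, hqf, hVn, hVK, hV1, hVc, hs, hs2, hVs, -, hrel, -⟩ :=
    exists_layer (fun p => p ≠ 2) _ G rfl f hf hsol ⟨3, Nat.prime_three, by norm_num, h3⟩
  have hf' : Function.Surjective f' := by
    intro x
    obtain ⟨g, rfl⟩ := hf x
    exact ⟨q g, hqf g⟩
  -- `s ∈ {3, 5}`
  have hs5 : s = 3 ∨ s = 5 := by
    have h1 : s ∣ Nat.card V := by
      have := Fact.mk hs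
      have hVp : IsPGroup s ↥V := fun v => ⟨1, Subtype.ext (by rw [pow_one]; exact hVs v v.2)⟩
      obtain ⟨k, hk⟩ := (IsPGroup.iff_card).1 hVp
      rw [hk]
      refine dvd_pow_self s ?_
      rintro rfl
      rw [pow_zero] at hk
      exact hV1 (Subgroup.card_eq_one.1 hk)
    have h2 : Nat.card f'.ker ∣ Nat.card f.ker := by
      have h4 : f'.ker = f.ker.map q := by
        ext z
        obtain ⟨g, rfl⟩ := hq z
        constructor
        · intro h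
          exact ⟨g, MonoidHom.mem_ker.2 (by rw [← hqf]; exact h), rfl⟩
        · rintro ⟨g', hg', e⟩
          rw [← e]
          exact MonoidHom.mem_ker.2 (by rw [hqf]; exact hg')
      rw [h4]
      exact Subgroup.card_map_dvd _ _
    have h5 := hpr s hs ((h1.trans (Subgroup.card_dvd_of_le hVK)).trans h2)
    have h6 := hs.two_le
    interval_cases s
    · exact absurd rfl hs2
    · exact Or.inl rfl
    · exact absurd hs (by norm_num)
    · exact Or.inr rfl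
  -- the quotient
  have hfVK : V ≤ f'.ker := hVK
  let f1 : G' ⧸ V →* X := QuotientGroup.lift V f' fun v hv => hfVK hv
  have hf1 : Function.Surjective f1 := by
    intro x
    obtain ⟨g, rfl⟩ := hf' x
    exact ⟨(g : G' ⧸ V), rfl⟩
  have hk1 : f1.ker = f'.ker.map (QuotientGroup.mk' V) := by
    ext z
    obtain ⟨g, rfl⟩ := QuotientGroup.mk'_surjective V z
    constructor
    · intro h
      exact ⟨g, h, rfl⟩
    · rintro ⟨g', hg', e⟩
      rw [← e]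
      exact hg'
  have hcard1 : Nat.card f1.ker = V.relIndex f'.ker := by
    have h3 : ((QuotientGroup.mk' V).ker).relIndex f'.ker = Nat.card ↥(f'.ker.map (QuotientGroup.mk' V)) :=
      Subgroup.relIndex_ker _ _
    rw [QuotientGroup.ker_mk'] at h3
    rw [hk1, h3]
  have hM : IsPGroup 2 ↥f1.ker := isPGroup_ker fun p hp hp2 => by rw [hcard1]; exact hrel p hp hp2
  have hG' : ∀ m, Has G' m → Has G m := fun m h => Has.of_surj q hq h
  have hG1 : ∀ m, Has (G' ⧸ V) m → Has G' m := fun m h => Has.of_surj _ (QuotientGroup.mk'_surjective V) h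
  obtain ⟨A, _, _, _, ρ, hA, hnm, -⟩ := exists_qact hVn hV1 hVc hs hVs
  obtain ⟨⟨x0, h0, hx0, hh0, hxh⟩, ⟨y0, a0, b0, g0, c1, c2, d1, d2, i, j, hy0, ha, hay, hb, hby, hg, hc1, hc1y, hc2,
    hc2y, hd1, hd1y, hd2, hd2y, h7, τ0, w0, t0, hτ, hτ1, hτy, hw, hw1, hwy, ht, ht1, hty, h12, h3', hτw⟩, e0, he0⟩ := hD
  rcases hs5 with rfl | rfl
  · -- `s = 3`
    obtain ⟨y, rfl, hy⟩ := exists_lift f1 hf1 hy0 ((Nat.Prime.coprime_iff_not_dvd (by norm_num)).2
      (not_dvd_ker hM (by norm_num : Nat.Prime 5) (by norm_num)))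
    have hct := cent_triv hf1 hM (fun h => h20 (hG' _ (hG1 _ h))) (fun h => h14 (hG' _ (hG1 _ h))) hy ha hay hb hby hg
      hc1 hc1y hc2 hc2y hd1 hd1y hd2 hd2y h7
    obtain ⟨τ, w, t, hfτ, hfw, hft, e1, e2, e3, e4, e5, e6, e7, e8, e9⟩ := exists_A5 hf1 hM hy hct hτ hτy hw hwy ht hty
      h12 h3' hτw
    have hne : ∀ {z : G' ⧸ V} {z0 : X}, f1 z = z0 → z0 ≠ 1 → z ≠ 1 := by
      rintro z z0 h1 h2 rfl
      exact h2 (by rw [← h1, map_one])
    have hρ := act_three (G := G') hA hnm (fun h => h30 (hG' _ h)) (fun h => h18 (hG' _ h)) hy e1 (hne hfτ hτ1) e2 e3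
      (hne hfw hw1) e4 e5 (hne hft ht1) e6 e7 e8 e9
    exact h24 (hG' _ (trivial_has f1 hf1 hs hA hnm hG1 hρ (by rw [hft]; exact ht1) he0 (by norm_num)))
  · -- `s = 5`
    obtain ⟨x, h, hfx, hfh, hxo, hh6, hhx⟩ := exists_frob hf1 hM (by norm_num : Nat.Prime 7) (by norm_num)
      (fun h => h14 (hG' _ (hG1 _ h))) hx0 hh0 hxh (by decide) (by norm_num)
    have hk : ∀ i, 0 < i → i < 6 → ¬ 3 ^ i ≡ 1 [MOD 7] := by
      intro i hi hi6
      interval_cases i <;> decide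
    have hho := (orderOf_frob hxo (by norm_num) hh6 hhx hk).1
    have hn0 : nm ρ h 6 = 0 := by
      by_contra hne
      have := hnm h (by rw [hho]; exact hne)
      rw [hho] at this
      exact h30 (hG' _ this)
    have hρ := act_frob hA (by norm_num : Nat.Prime 7) (by norm_num) hxo (by norm_num) hh6 hhx hk hn0
    refine h35 (hG' _ (trivial_has f1 hf1 hs hA hnm hG1 hρ ?_ hx0 (by norm_num)))
    rw [hfx]
    intro h1
    rw [h1, orderOf_one] at hx0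
    omega

end Cfsg.Agent.H998.SpAlt
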