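import Cfsg.Agent.H998.SpAlt.Act

/-!
# Layers of a solvable normal subgroup (helper998, for S3666)

* `exists_layer` : if a prime satisfying `π` divides the order of the solvable kernel of `f : G →* X`, there are a
  quotient `G'` of `G` and a minimal normal elementary abelian `s`-subgroup `V` of `G'` in the kernel of
  `f' : G' →* X` with `π s`, and no prime satisfying `π` divides `|ker f' : V|`;
* `trivial_has` : if an element outside the kernel acts trivially on `V` then `m s` is an element order for every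
  element order `m` of `X` prime to `s`.
-/

set_option autoImplicit false

namespace Cfsg.Agent.H998.SpAlt

open Subgroup

universe u v

/-- minimal normal subgroups in solvable normal subgroups -/
theorem exists_minimal {G : Type u} [Group G] [Finite G] {K : Subgroup G} (hKn : K.Normal)
    (hK : Group.IsSolvable ↥K) (hne : K ≠ ⊥) :
    ∃ (V : Subgroup G) (s : ℕ), V.Normal ∧ V ≤ K ∧ V ≠ ⊥ ∧ (∀ a ∈ V, ∀ b ∈ V, a * b = b * a) ∧ s.Prime ∧
      (∀ v ∈ V, v ^ s = 1) ∧ ∀ W : Subgroup G, W.Normal → W ≤ V → W = ⊥ ∨ W = V := by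
  classical
  obtain ⟨V, hV⟩ := Set.Finite.exists_minimal (s := {M : Subgroup G | M.Normal ∧ M ≤ K ∧ M ≠ ⊥})
    (Set.toFinite _) ⟨K, hKn, le_rfl, hne⟩
  obtain ⟨⟨hVn, hVK, hV1⟩, hVmin⟩ := hV
  have hmin : ∀ W : Subgroup G, W.Normal → W ≤ V → W = ⊥ ∨ W = V := by
    intro W hW hWV
    by_cases h : W = ⊥
    · exact Or.inl h
    · exact Or.inr (le_antisymm hWV (hVmin ⟨hW, hWV.trans hVK, h⟩ hWV))
  have hcomm : ∀ a ∈ V, ∀ b ∈ V, a * b = b * a := by
    have h1 : (⁅V, V⁆ : Subgroup G).Normal := inferInstance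
    rcases hmin _ h1 (Subgroup.commutator_le_left V V) with h | h
    · intro a ha b hb
      have h2 := Subgroup.commutator_mem_commutator ha hb
      rw [h, mem_bot] at h2
      exact commutatorElement_eq_one_iff_mul_comm.1 h2
    · exfalso
      have hVs : Group.IsSolvable ↥V := Group.isSolvable_of_isSolvable_injective (f := Subgroup.inclusion hVK)
        (Subgroup.inclusion_injective hVK)
      have h2 : ∀ n : ℕ, (derivedSeries ↥V n).map V.subtype = V := by
        intro n
        induction n with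
        | zero =>
          rw [derivedSeries_zero, ← MonoidHom.range_eq_map, Subgroup.range_subtype]
        | succ n ih =>
          rw [derivedSeries_succ, Subgroup.map_commutator, ih, h]
      obtain ⟨n, hn⟩ := hVs.solvable
      have h3 := h2 n
      rw [hn, Subgroup.map_bot] at h3
      exact hV1 h3.symm
  have hcard : Nat.card V ≠ 1 := fun h => hV1 (Subgroup.card_eq_one.1 h)
  obtain ⟨s, hs, hsd⟩ := Nat.exists_prime_and_dvd hcard
  have hfs : Fact s.Prime := ⟨hs⟩
  refine ⟨V, s, hVn, hVK, hV1, hcomm, hs, ?_, hmin⟩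
  let W : Subgroup G :=
    { carrier := {v | v ∈ V ∧ v ^ s = 1}
      mul_mem' := by
        rintro a b ⟨ha, ha'⟩ ⟨hb, hb'⟩
        refine ⟨V.mul_mem ha hb, ?_⟩
        have : Commute a b := hcomm a ha b hb
        rw [this.mul_pow, ha', hb', one_mul]
      one_mem' := ⟨V.one_mem, one_pow _⟩
      inv_mem' := by
        rintro a ⟨ha, ha'⟩
        exact ⟨V.inv_mem ha, by rw [inv_pow, ha', inv_one]⟩ }
  have hWn : W.Normal := by
    constructor
    rintro n ⟨hn, hn'⟩ g
    exact ⟨hVn.conj_mem n hn g, by rw [conj_pow, hn', mul_one, mul_inv_cancel]⟩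
  have hWV : W ≤ V := fun v hv => hv.1
  rcases hmin W hWn hWV with h | h
  · exfalso
    obtain ⟨x, hx⟩ := exists_prime_orderOf_dvd_card' s hsd
    have h1 : (x : G) ∈ W := ⟨x.2, by rw [← hx, ← Subgroup.orderOf_coe, pow_orderOf_eq_one]⟩
    rw [h, mem_bot] at h1
    have h2 : x = 1 := Subtype.ext h1
    rw [h2, orderOf_one] at hx
    exact hs.one_lt.ne hx
  · intro v hv
    rw [← h] at hv
    exact hv.2

/-- **layers** -/
theorem exists_layer {X : Type v} [Group X] (π : ℕ → Prop) : ∀ (n : ℕ) (G : Type u) [Group G] [Finite G],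
    Nat.card G = n → ∀ f : G →* X, Function.Surjective f → Group.IsSolvable ↥f.ker →
    (∃ p, p.Prime ∧ π p ∧ p ∣ Nat.card f.ker) →
    ∃ (G' : Type u) (_ : Group G') (_ : Finite G') (q : G →* G') (f' : G' →* X) (V : Subgroup G') (s : ℕ),
      Function.Surjective q ∧ (∀ g, f' (q g) = f g) ∧ V.Normal ∧ V ≤ f'.ker ∧ V ≠ ⊥ ∧
      (∀ a ∈ V, ∀ b ∈ V, a * b = b * a) ∧ s.Prime ∧ π s ∧ (∀ v ∈ V, v ^ s = 1) ∧
      (∀ W : Subgroup G', W.Normal → W ≤ V → W = ⊥ ∨ W = V) ∧
      (∀ p, p.Prime → π p → ¬ p ∣ V.relIndex f'.ker) ∧ Group.IsSolvable ↥f'.ker := by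
  intro n
  induction n using Nat.strong_induction_on with
  | _ n ih =>
    intro G _ _ hG f hf hsol hp
    obtain ⟨p, hpp, hπ, hpd⟩ := hp
    have hne : f.ker ≠ ⊥ := by
      intro h
      rw [h, Subgroup.card_bot] at hpd
      exact hpp.one_lt.ne' (Nat.dvd_one.1 hpd)
    obtain ⟨V, s, hVn, hVK, hV1, hVc, hs, hVs, hVm⟩ := exists_minimal f.normal_ker hsol hne
    by_cases hcase : ∀ p, p.Prime → π p → ¬ p ∣ V.relIndex f.ker
    · refine ⟨G, inferInstance, inferInstance, MonoidHom.id G, f, V, s, Function.surjective_id, fun g => rfl, hVn, hVK,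
        hV1, hVc, hs, ?_, hVs, hVm, hcase, hsol⟩
      -- `p` divides `|V|`, hence `p = s`
      have h1 : Nat.card V * V.relIndex f.ker = Nat.card f.ker := by
        have h2 := Subgroup.relIndex_mul_relIndex (⊥ : Subgroup G) V f.ker bot_le hVK
        rwa [Subgroup.relIndex_bot_left, Subgroup.relIndex_bot_left] at h2
      rw [← h1] at hpd
      rcases hpp.dvd_mul.1 hpd with h | h
      · have hVp : IsPGroup s ↥V := fun v => ⟨1, Subtype.ext (by rw [pow_one]; exact hVs v v.2)⟩
        have := Fact.mk hs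
        obtain ⟨k, hk⟩ := (IsPGroup.iff_card).1 hVp
        rw [hk] at h
        rw [← (Nat.prime_dvd_prime_iff_eq hpp hs).1 (hpp.dvd_of_dvd_pow h)]
        exact hπ
      · exact absurd h (hcase p hpp hπ)
    · push Not at hcase
      obtain ⟨p', hp', hπ', hd'⟩ := hcase
      let f1 : G ⧸ V →* X := QuotientGroup.lift V f fun v hv => hVK hv
      have hf1 : Function.Surjective f1 := by
        intro x
        obtain ⟨g, rfl⟩ := hf x
        exact ⟨(g : G ⧸ V), rfl⟩
      have hk1 : f1.ker = f.ker.map (QuotientGroup.mk' V) := by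
        ext z
        obtain ⟨g, rfl⟩ := QuotientGroup.mk'_surjective V z
        constructor
        · intro h
          exact ⟨g, h, rfl⟩
        · rintro ⟨g', hg', e⟩
          rw [← e]
          exact hg'
      have hsol1 : Group.IsSolvable ↥f1.ker := by
        rw [hk1]
        exact Group.isSolvable_of_surjective (f := (QuotientGroup.mk' V).subgroupMap f.ker)
          ((QuotientGroup.mk' V).subgroupMap_surjective f.ker)
      have hcard1 : Nat.card f1.ker = V.relIndex f.ker := by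
        have h2 : Nat.card ↥(f.ker.map (QuotientGroup.mk' V)) = V.relIndex f.ker := by
          have h3 : ((QuotientGroup.mk' V).ker).relIndex f.ker = Nat.card ↥(f.ker.map (QuotientGroup.mk' V)) :=
            Subgroup.relIndex_ker _ _
          rw [QuotientGroup.ker_mk'] at h3
          exact h3.symm
        rw [hk1, h2]
      have hlt : Nat.card (G ⧸ V) < n := by
        have h1 := Subgroup.card_eq_card_quotient_mul_card_subgroup V
        have h2 : 1 < Nat.card V := by
          have h3 : Nat.card V ≠ 1 := fun h => hV1 (Subgroup.card_eq_one.1 h)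
          have h4 : 0 < Nat.card V := Nat.card_pos
          omega
        have h3 : 0 < Nat.card (G ⧸ V) := Nat.card_pos
        rw [← hG, h1]
        exact lt_mul_of_one_lt_right h3 h2
      obtain ⟨G', i1, i2, q, f', V', s', h1, h2, h3⟩ := ih _ hlt (G ⧸ V) rfl f1 hf1 hsol1
        ⟨p', hp', hπ', by rw [hcard1]; exact hd'⟩
      exact ⟨G', i1, i2, q.comp (QuotientGroup.mk' V), f', V', s', h1.comp (QuotientGroup.mk'_surjective V),
        fun g => h2 _, h3⟩

section

/-- the action of `G ⧸ V` on `V` -/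
theorem exists_qact {G : Type u} [Group G] [Finite G] {V : Subgroup G} (hVn : V.Normal) (hV1 : V ≠ ⊥)
    (hc : ∀ a ∈ V, ∀ b ∈ V, a * b = b * a) {s : ℕ} (hs : s.Prime) (he : ∀ v ∈ V, v ^ s = 1) :
    ∃ (A : Type u) (_ : AddCommGroup A) (_ : Nontrivial A) (_ : Finite A) (ρ : G ⧸ V →* AddMonoid.End A),
      (∀ a : A, s • a = 0) ∧ (∀ g : G ⧸ V, nm ρ g (orderOf g) ≠ 0 → Has G (orderOf g * s)) ∧
      ((∀ W : Subgroup G, W.Normal → W ≤ V → W = ⊥ ∨ W = V) →
        ∀ B : AddSubgroup A, (∀ g, ∀ b ∈ B, ρ g b ∈ B) → B = ⊥ ∨ B = ⊤) := by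
  obtain ⟨A, iA, ρ, ι, h1, h2, h3, h4, h5⟩ := exists_act V hc
  have h0 := iota_zero h4
  have hker : ∀ v ∈ V, ρ v = 1 := by
    intro v hv
    ext a
    apply h1
    rw [h5, hc v hv _ (h2 a)]
    show ι a * v * v⁻¹ = ι a
    group
  have hnt : Nontrivial A := by
    obtain ⟨⟨v, hv⟩, hv1'⟩ := Subgroup.ne_bot_iff_exists_ne_one.1 hV1
    have hv1 : v ≠ 1 := fun h => hv1' (Subtype.ext h)
    obtain ⟨a, rfl⟩ := h3 v hv
    exact ⟨a, 0, fun h => hv1 (by rw [h, h0])⟩
  have hsmul : ∀ (a : A) (n : ℕ), ι (n • a) = ι a ^ n := by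
    intro a n
    induction n with
    | zero => rw [zero_smul, h0, pow_zero]
    | succ n ih => rw [succ_nsmul, h4, ih, pow_succ]
  refine ⟨A, iA, hnt, Finite.of_injective ι h1, QuotientGroup.lift V ρ hker, ?_, ?_, ?_⟩
  · intro a
    apply h1
    rw [hsmul, h0]
    exact he _ (h2 a)
  · intro g hg
    obtain ⟨g, rfl⟩ := QuotientGroup.mk_surjective g
    refine has_of_norm (g := g) (V := V) hs he ρ h1 h2 h4 h5 ?_ ?_ ?_
    · rw [← QuotientGroup.eq_one_iff, QuotientGroup.mk_pow, pow_orderOf_eq_one]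
    · intro k hk
      rw [← QuotientGroup.eq_one_iff, QuotientGroup.mk_pow] at hk
      exact orderOf_dvd_of_pow_eq_one hk
    · intro h
      apply hg
      rw [← h]
      rfl
  · intro hmin B hB
    let W : Subgroup G :=
      { carrier := {v | ∃ b ∈ B, ι b = v}
        mul_mem' := by
          rintro _ _ ⟨a, ha, rfl⟩ ⟨b, hb, rfl⟩
          exact ⟨a + b, B.add_mem ha hb, h4 a b⟩
        one_mem' := ⟨0, B.zero_mem, h0⟩
        inv_mem' := by
          rintro _ ⟨a, ha, rfl⟩
          refine ⟨-a, B.neg_mem ha, ?_⟩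
          rw [eq_inv_iff_mul_eq_one, ← h4, neg_add_cancel, h0] }
    have hWn : W.Normal := by
      constructor
      rintro _ ⟨b, hb, rfl⟩ g
      exact ⟨ρ g b, hB (g : G ⧸ V) b hb, h5 g b⟩
    have hWV : W ≤ V := by
      rintro _ ⟨b, -, rfl⟩
      exact h2 b
    rcases hmin W hWn hWV with h | h
    · left
      rw [eq_bot_iff]
      intro b hb
      have h6 : ι b ∈ W := ⟨b, hb, rfl⟩
      rw [h, mem_bot] at h6
      exact AddSubgroup.mem_bot.2 (h1 (h6.trans h0.symm))
    · right
      rw [eq_top_iff]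
      intro a _
      have h6 : ι a ∈ W := by rw [h]; exact h2 a
      obtain ⟨b, hb, e⟩ := h6
      rwa [← h1 e]

variable {G : Type*} [Group G] [Finite G] {G1 : Type*} [Group G1] [Finite G1] {X : Type*} [Group X]
  {A : Type*} [AddCommGroup A] [Nontrivial A] {ρ : G1 →* AddMonoid.End A} {s : ℕ}

omit [Nontrivial A] in
theorem nsmul_ne {n : ℕ} (hs : s.Prime) (hA : ∀ a : A, s • a = 0) (hn : ¬ s ∣ n) {a : A} (ha : a ≠ 0) : n • a ≠ 0 := by
  intro h
  have h1 : addOrderOf a ∣ n := addOrderOf_dvd_of_nsmul_eq_zero h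
  have h2 : addOrderOf a ∣ s := addOrderOf_dvd_of_nsmul_eq_zero (hA a)
  rcases (Nat.dvd_prime hs).1 h2 with h3 | h3
  · exact ha (AddMonoid.addOrderOf_eq_one_iff.1 h3)
  · exact hn (h3 ▸ h1)

/-- **an element outside the kernel acting trivially** -/
theorem trivial_has [hX : IsSimpleGroup X] (f : G1 →* X) (hf : Function.Surjective f) (hs : s.Prime)
    (hA : ∀ a : A, s • a = 0) (hnm : ∀ g : G1, nm ρ g (orderOf g) ≠ 0 → Has G (orderOf g * s))
    (hG : ∀ m, Has G1 m → Has G m) {t : G1} (ht : ρ t = 1) (ht1 : f t ≠ 1) {x0 : X} {m : ℕ} (hx : orderOf x0 = m)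
    (hm : m.Coprime s) : Has G (m * s) := by
  have h1 : (ρ.ker.map f).Normal := Subgroup.Normal.map inferInstance f hf
  rcases h1.eq_bot_or_eq_top with h | h
  · exfalso
    have h2 : f t ∈ ρ.ker.map f := ⟨t, ht, rfl⟩
    rw [h, mem_bot] at h2
    exact ht1 h2
  · have h2 : x0 ∈ ρ.ker.map f := by rw [h]; exact mem_top _
    obtain ⟨c, hc, rfl⟩ := h2
    have hc1 : ρ c = 1 := hc
    have hmd : m ∣ orderOf c := hx ▸ orderOf_map_dvd f c
    by_cases hsn : s ∣ orderOf c
    · exact hG _ (has_of_dvd c (hm.mul_dvd_of_dvd_of_dvd hmd hsn))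
    · refine (hnm c ?_).dvd (Nat.mul_dvd_mul_right hmd s)
      intro h0
      obtain ⟨a, ha⟩ := exists_ne (0 : A)
      refine nsmul_ne hs hA hsn ha ?_
      have h3 : nm ρ c (orderOf c) a = orderOf c • a := by
        unfold nm
        rw [hc1]
        simp only [one_pow, Finset.sum_const, Finset.card_range]
        rfl
      rw [← h3, h0]
      rfl

end

end Cfsg.Agent.H998.SpAlt
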