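import Mathlib

/-!
# Coprime lifting of elements and of conjugations (helper998, for S3666)

`π : G →* X` with finite kernel of order prime to `p`.
-/

set_option autoImplicit false

namespace Cfsg.Agent.H998.SpAlt

open Subgroup
open scoped Pointwise

universe u v

/-- element orders -/
def Has (G : Type*) [Group G] (m : ℕ) : Prop := ∃ g : G, orderOf g = m

section

variable {G : Type u} [Group G] {X : Type v} [Group X]

theorem has_of_dvd [Finite G] (g : G) {m : ℕ} (h : m ∣ orderOf g) : Has G m := by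
  obtain ⟨c, hc⟩ := h
  have hpos := orderOf_pos g
  have hc0 : c ≠ 0 := by
    rintro rfl
    rw [mul_zero] at hc
    omega
  refine ⟨g ^ c, ?_⟩
  rw [orderOf_pow' _ hc0, hc, Nat.gcd_eq_right (dvd_mul_left c m), Nat.mul_div_cancel _ (Nat.pos_of_ne_zero hc0)]

theorem Has.dvd [Finite G] {m n : ℕ} (h : Has G n) (hd : m ∣ n) : Has G m := by
  obtain ⟨g, rfl⟩ := h
  exact has_of_dvd g hd

theorem Has.of_map [Finite G] (f : G →* X) {x : X} {m : ℕ} (g : G) (hg : f g = x) (hm : m ∣ orderOf x) : Has G m :=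
  has_of_dvd g (hm.trans (hg ▸ orderOf_map_dvd f g))

theorem Has.of_surj [Finite G] (f : G →* X) (hf : Function.Surjective f) {m : ℕ} (h : Has X m) : Has G m := by
  obtain ⟨x, hx⟩ := h
  obtain ⟨g, hg⟩ := hf x
  exact Has.of_map f g hg (dvd_of_eq hx.symm)

/-- commuting elements of coprime orders -/
theorem has_mul [Finite G] {a b : G} (hc : a * b = b * a) {m n : ℕ} (hm : m ∣ orderOf a) (hn : n ∣ orderOf b)
    (hcop : m.Coprime n) : Has G (m * n) := by
  obtain ⟨c, hc1⟩ := hm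
  obtain ⟨d, hd1⟩ := hn
  have hc0 : c ≠ 0 := by
    rintro rfl
    rw [mul_zero] at hc1
    exact (orderOf_pos a).ne' hc1
  have hd0 : d ≠ 0 := by
    rintro rfl
    rw [mul_zero] at hd1
    exact (orderOf_pos b).ne' hd1
  have h1 : orderOf (a ^ c) = m := by
    rw [orderOf_pow' _ hc0, hc1, Nat.gcd_eq_right (dvd_mul_left c m), Nat.mul_div_cancel _ (Nat.pos_of_ne_zero hc0)]
  have h2 : orderOf (b ^ d) = n := by
    rw [orderOf_pow' _ hd0, hd1, Nat.gcd_eq_right (dvd_mul_left d n), Nat.mul_div_cancel _ (Nat.pos_of_ne_zero hd0)]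
  have h3 : Commute (a ^ c) (b ^ d) := (Commute.pow_pow (show Commute a b from hc) c d)
  exact ⟨a ^ c * b ^ d, by rw [h3.orderOf_mul_eq_mul_orderOf_of_coprime (by rw [h1, h2]; exact hcop), h1, h2]⟩

/-- the order of an element modulo the kernel -/
theorem orderOf_dvd_mul_card [Finite G] (f : G →* X) (g : G) : orderOf g ∣ orderOf (f g) * Nat.card f.ker := by
  apply orderOf_dvd_of_pow_eq_one
  rw [pow_mul]
  have h1 : g ^ orderOf (f g) ∈ f.ker := by rw [MonoidHom.mem_ker, map_pow, pow_orderOf_eq_one]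
  have h2 : (⟨g ^ orderOf (f g), h1⟩ : f.ker) ^ Nat.card f.ker = 1 := pow_card_eq_one'
  exact congrArg Subtype.val h2

/-- a power of `g` with the same image and of the same order as the image -/
theorem exists_lift_pow [Finite G] (f : G →* X) (g : G) {n : ℕ} (hn : orderOf (f g) = n)
    (hcop : n.Coprime (Nat.card f.ker)) : ∃ j : ℕ, f (g ^ j) = f g ∧ orderOf (g ^ j) = n := by
  have hd := orderOf_dvd_mul_card f g
  rw [hn] at hd
  have hnd : n ∣ orderOf g := hn ▸ orderOf_map_dvd f g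
  obtain ⟨c, hc⟩ := hnd
  have hgp := orderOf_pos g
  have hn0 : n ≠ 0 := by rintro rfl; rw [zero_mul] at hc; omega
  have hc0 : c ≠ 0 := by rintro rfl; rw [mul_zero] at hc; omega
  have hcm : c ∣ Nat.card f.ker := by
    rw [hc] at hd
    exact Nat.dvd_of_mul_dvd_mul_left (Nat.pos_of_ne_zero hn0) hd
  have hcop' : n.Coprime c := hcop.coprime_dvd_right hcm
  obtain ⟨j, hj1, hj2⟩ := Nat.chineseRemainder hcop' 1 0
  have hcj : c ∣ j := (Nat.modEq_zero_iff_dvd).1 hj2
  have hfj : f (g ^ j) = f g := by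
    rw [map_pow]
    conv_rhs => rw [← pow_one (f g)]
    rw [pow_eq_pow_iff_modEq, hn]
    exact hj1
  refine ⟨j, hfj, Nat.dvd_antisymm ?_ ?_⟩
  · apply orderOf_dvd_of_pow_eq_one
    rw [← pow_mul]
    apply orderOf_dvd_iff_pow_eq_one.1
    rw [hc, mul_comm j n]
    exact Nat.mul_dvd_mul_left n hcj
  · rw [← hn, ← hfj]
    exact orderOf_map_dvd f _

theorem exists_lift [Finite G] (f : G →* X) (hf : Function.Surjective f) {x : X} {n : ℕ} (hn : orderOf x = n)
    (hcop : n.Coprime (Nat.card f.ker)) : ∃ g : G, f g = x ∧ orderOf g = n := by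
  obtain ⟨g, rfl⟩ := hf x
  obtain ⟨j, h1, h2⟩ := exists_lift_pow f g hn hcop
  exact ⟨g ^ j, h1, h2⟩

/-- two lifts of the same element are conjugate by an element of the kernel -/
theorem conj_of_lift [Finite G] (f : G →* X) {p : ℕ} (hp : p.Prime) (hpk : ¬ p ∣ Nat.card f.ker) {x x' : G}
    (hx : orderOf x = p) (hx' : orderOf x' = p) (he : f x = f x') : ∃ m ∈ f.ker, m * x * m⁻¹ = x' := by
  have := Fact.mk hp
  have hfx : orderOf (f x) = p := by
    rcases (Nat.dvd_prime hp).1 (hx ▸ orderOf_map_dvd f x) with h | h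
    · exfalso
      have h1 : x ∈ f.ker := by rw [MonoidHom.mem_ker]; exact orderOf_eq_one_iff.1 h
      exact hpk (hx ▸ Subgroup.orderOf_dvd_natCard _ h1)
    · exact h
  set B : Subgroup G := (zpowers (f x)).comap f with hB
  have hker : f.ker ≤ B := fun g hg => by
    rw [hB, mem_comap, MonoidHom.mem_ker.1 hg]
    exact one_mem _
  have hxB : x ∈ B := by rw [hB, mem_comap]; exact mem_zpowers _
  have hx'B : x' ∈ B := by rw [hB, mem_comap, ← he]; exact mem_zpowers _
  -- the order of `B`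
  let f' : B →* zpowers (f x) := (f.comp B.subtype).codRestrict _ fun b => b.2
  have hf' : Function.Surjective f' := by
    rintro ⟨y, i, rfl⟩
    refine ⟨⟨x ^ i, zpow_mem hxB i⟩, Subtype.ext ?_⟩
    show f (x ^ i) = f x ^ i
    rw [map_zpow]
  have hk' : Nat.card f'.ker = Nat.card f.ker := by
    refine Nat.card_congr ⟨fun b => ⟨b.1.1, ?_⟩, fun g => ⟨⟨g.1, hker g.2⟩, ?_⟩, fun b => rfl, fun g => rfl⟩
    · have := congrArg Subtype.val (MonoidHom.mem_ker.1 b.2)
      exact this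
    · rw [MonoidHom.mem_ker]
      exact Subtype.ext (MonoidHom.mem_ker.1 g.2)
  have hcB : Nat.card B = Nat.card f.ker * p := by
    have h1 := Subgroup.card_mul_index f'.ker
    rw [Subgroup.index_ker, hk', MonoidHom.range_eq_top.2 hf', Subgroup.card_top, Nat.card_zpowers, hfx] at h1
    exact h1.symm
  have hfac : (Nat.card B).factorization p = 1 := by
    rw [hcB, Nat.factorization_mul (Nat.card_pos).ne' hp.ne_zero, Finsupp.add_apply,
      Nat.factorization_eq_zero_of_not_dvd hpk, hp.factorization_self]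
  have key : ∀ y : G, y ∈ B → orderOf y = p → ∃ P : Sylow p B, (P : Subgroup B).map B.subtype = zpowers y := by
    intro y hyB hy
    set y' : B := ⟨y, hyB⟩ with hy'
    have hyo : orderOf y' = p := by rw [hy', Subgroup.orderOf_mk, hy]
    have h1 : IsPGroup p (zpowers y') := IsPGroup.of_card (n := 1) (by rw [Nat.card_zpowers, hyo, pow_one])
    obtain ⟨P, hP⟩ := h1.exists_le_sylow
    have h2 : Nat.card P = p := by rw [P.card_eq_multiplicity, hfac, pow_one]
    have h3 : zpowers y' = (P : Subgroup B) := Subgroup.eq_of_le_of_card_ge hP (by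
      rw [Nat.card_zpowers, hyo]
      exact h2.le)
    refine ⟨P, ?_⟩
    rw [← h3, MonoidHom.map_zpowers]
    rfl
  obtain ⟨P, hP⟩ := key x hxB hx
  obtain ⟨P', hP'⟩ := key x' hx'B hx'
  obtain ⟨b, hb⟩ := MulAction.exists_smul_eq B P P'
  have hconj : ∀ y ∈ zpowers x, (b : G) * y * (b : G)⁻¹ ∈ zpowers x' := by
    intro y hy
    rw [← hP] at hy
    obtain ⟨y0, hy0, rfl⟩ := hy
    rw [← hP', ← hb]
    refine ⟨b * y0 * b⁻¹, ?_, rfl⟩
    have h1 : MulAut.conj b • y0 ∈ MulAut.conj b • (P : Subgroup B) := Subgroup.smul_mem_pointwise_smul _ _ _ hy0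
    exact h1
  -- write `b = m x ^ j`
  obtain ⟨j, hj⟩ : ∃ j : ℤ, f x ^ j = f b := (mem_zpowers_iff).1 b.2
  refine ⟨(b : G) * x ^ (-j), ?_, ?_⟩
  · rw [MonoidHom.mem_ker, map_mul, map_zpow, ← hj, ← zpow_add, add_neg_cancel, zpow_zero]
  · have e1 : (b : G) * x ^ (-j) * x * ((b : G) * x ^ (-j))⁻¹ = (b : G) * x * (b : G)⁻¹ := by
      have : x ^ (-j) * x * (x ^ (-j))⁻¹ = x := by
        rw [← zpow_add_one, ← zpow_neg, ← zpow_add]
        simp
      calc (b : G) * x ^ (-j) * x * ((b : G) * x ^ (-j))⁻¹ = (b : G) * (x ^ (-j) * x * (x ^ (-j))⁻¹) * (b : G)⁻¹ := by group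
        _ = _ := by rw [this]
    rw [e1]
    obtain ⟨i, hi⟩ := mem_zpowers_iff.1 (hconj x (mem_zpowers x))
    rw [← hi]
    -- compare the images
    have h2 : f (x' ^ i) = f x' := by
      rw [hi, map_mul, map_mul, map_inv, ← hj, ← he]
      have : Commute (f x ^ j) (f x) := (Commute.refl (f x)).zpow_left j
      rw [this.eq, mul_assoc, mul_inv_cancel, mul_one]
    have h3 : (i - 1 : ℤ) ∣ (i - 1 : ℤ) := dvd_rfl
    have h4 : (orderOf (f x') : ℤ) ∣ i - 1 := by
      rw [orderOf_dvd_iff_zpow_eq_one, zpow_sub, zpow_one, ← map_zpow, h2, mul_inv_cancel]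
    rw [← he, hfx, ← hx'] at h4
    have h5 : x' ^ (i - 1) = 1 := orderOf_dvd_iff_zpow_eq_one.1 h4
    have h6 : x' ^ i = x' ^ (i - 1) * x' := by rw [← zpow_add_one]; congr 1; ring
    rw [h6, h5, one_mul]

/-- lifting of a conjugation -/
theorem lift_conj [Finite G] (f : G →* X) (hf : Function.Surjective f) {p : ℕ} (hp : p.Prime)
    (hpk : ¬ p ∣ Nat.card f.ker) {x x' : G} (hx : orderOf x = p) (hx' : orderOf x' = p) {h0 : X}
    (he : h0 * f x * h0⁻¹ = f x') : ∃ h : G, f h = h0 ∧ h * x * h⁻¹ = x' := by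
  obtain ⟨h1, rfl⟩ := hf h0
  have ho : orderOf (h1 * x * h1⁻¹) = p := by
    rw [← hx]
    exact orderOf_injective (MulAut.conj h1).toMonoidHom (MulAut.conj h1).injective x
  obtain ⟨m, hm, hm'⟩ := conj_of_lift f hp hpk ho hx' (by rw [map_mul, map_mul, map_inv, he])
  refine ⟨m * h1, by rw [map_mul, MonoidHom.mem_ker.1 hm, one_mul], ?_⟩
  rw [← hm']
  group

end

end Cfsg.Agent.H998.SpAlt
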