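import Cfsg.Agent.H998.SpAlt.Act
import Cfsg.Agent.Lib.Cores

/-!
# The Shult step (helper998, for S3666)

`ρ : G1 →* AddMonoid.End A`, `A` a finite elementary abelian `s`-group, irreducible; `K1` normal in `G1`; `x` of prime
order `r` not dividing `|K1|`, `r ≠ 2 ^ m + 1`, with `∑_{i < r} ρ x ^ i = 0`.  Then `ρ x` commutes with `ρ k` for all
`k ∈ K1`.  The theorem of Shult (S3041) is a hypothesis.
-/

set_option autoImplicit false
set_option linter.unusedSectionVars false

namespace Cfsg.Agent.H998.SpAlt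

open Subgroup
open scoped commutatorElement

universe u v

/-- the statement of S3041 over the prime field -/
def ShultStmt : Prop :=
  ∀ (X : Type u) [Group X] [Finite X] (G R : Subgroup X) [G.Normal] (_ : G ⊔ R = ⊤) (r : ℕ) (_ : r.Prime)
    (_ : Nat.card R = r) (_ : ¬ r ∣ Nat.card G) (p : ℕ) [Fact p.Prime] (V : Type u) [AddCommGroup V]
    [Module (ZMod p) V] [FiniteDimensional (ZMod p) V] [Nontrivial V] (ρ : Representation (ZMod p) X V)
    (_ : Function.Injective ρ) (_ : ∀ W : Submodule (ZMod p) V, (∀ x : X, W.map (ρ x) ≤ W) → W = ⊥ ∨ W = ⊤)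
    (_ : ∀ v : V, (∀ x ∈ R, ρ x v = v) → v = 0), ⁅G, R⁆ = ⊥ ∨ ∃ m : ℕ, r = 2 ^ m + 1

section

variable {H : Type u} [Group H] {A : Type u} [AddCommGroup A]

/-- factorisation through the image -/
theorem ker_fac {H : Type u} [Group H] {M : Type v} [Monoid M] (ρ : H →* M) :
    ∃ (Q : Type u) (_ : Group Q) (q : H →* Q) (ρ' : Q →* M),
      Function.Surjective q ∧ Function.Injective ρ' ∧ ∀ h : H, ρ' (q h) = ρ h := by
  refine ⟨H ⧸ ρ.ker, inferInstance, QuotientGroup.mk' ρ.ker, QuotientGroup.lift ρ.ker ρ fun _ h => h,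
    QuotientGroup.mk'_surjective _, ?_, fun h => rfl⟩
  intro a b hab
  obtain ⟨a, rfl⟩ := QuotientGroup.mk'_surjective _ a
  obtain ⟨b, rfl⟩ := QuotientGroup.mk'_surjective _ b
  have h1 : ρ a = ρ b := hab
  refine QuotientGroup.eq.2 ?_
  rw [MonoidHom.mem_ker, map_mul, ← h1, ← map_mul, inv_mul_cancel, map_one]

/-- restriction to an invariant subgroup -/
def res (ρ : H →* AddMonoid.End A) (B : AddSubgroup A) (hB : ∀ h, ∀ b ∈ B, ρ h b ∈ B) : H →* AddMonoid.End B where
  toFun h := ((ρ h : A →+ A).comp B.subtype).codRestrict B fun b => hB h b b.2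
  map_one' := by
    ext b
    show (ρ 1) (b : A) = b
    rw [map_one]
    rfl
  map_mul' h k := by
    ext b
    show (ρ (h * k)) (b : A) = ρ h (ρ k b)
    rw [map_mul]
    rfl

theorem res_apply (ρ : H →* AddMonoid.End A) (B : AddSubgroup A) (hB : ∀ h, ∀ b ∈ B, ρ h b ∈ B) (h : H) (b : B) :
    ((res ρ B hB h b : B) : A) = ρ h b := rfl

/-- the quotient by an invariant subgroup -/
def quo (ρ : H →* AddMonoid.End A) (B : AddSubgroup A) (hB : ∀ h, ∀ b ∈ B, ρ h b ∈ B) : H →* AddMonoid.End (A ⧸ B) where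
  toFun h := QuotientAddGroup.map B B (ρ h : A →+ A) fun b hb => hB h b hb
  map_one' := by
    refine AddMonoidHom.ext fun b => ?_
    obtain ⟨b, rfl⟩ := QuotientAddGroup.mk_surjective b
    show ((ρ 1 b : A) : A ⧸ B) = b
    rw [map_one]
    rfl
  map_mul' h k := by
    refine AddMonoidHom.ext fun b => ?_
    obtain ⟨b, rfl⟩ := QuotientAddGroup.mk_surjective b
    show ((ρ (h * k) b : A) : A ⧸ B) = ((ρ h (ρ k b) : A) : A ⧸ B)
    rw [map_mul]
    rfl

theorem quo_apply (ρ : H →* AddMonoid.End A) (B : AddSubgroup A) (hB : ∀ h, ∀ b ∈ B, ρ h b ∈ B) (h : H) (a : A) :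
    quo ρ B hB h (a : A ⧸ B) = ((ρ h a : A) : A ⧸ B) := rfl

/-- an endomorphism as a linear map over the prime field -/
def zl (A : Type u) [AddCommGroup A] (s : ℕ) [Module (ZMod s) A] : AddMonoid.End A →* (A →ₗ[ZMod s] A) where
  toFun f := AddMonoidHom.toZModLinearMap s (f : A →+ A)
  map_one' := LinearMap.ext fun _ => rfl
  map_mul' _ _ := LinearMap.ext fun _ => rfl

theorem zl_apply (A : Type u) [AddCommGroup A] (s : ℕ) [Module (ZMod s) A] (f : AddMonoid.End A) (a : A) :
    zl A s f a = f a := rfl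

theorem zl_inj (A : Type u) [AddCommGroup A] (s : ℕ) [Module (ZMod s) A] : Function.Injective (zl A s) := by
  intro f g h
  refine AddMonoidHom.ext fun a => ?_
  exact (zl_apply A s f a).symm.trans ((LinearMap.congr_fun h a).trans (zl_apply A s g a))

/-- the faithful case, in the language of linear representations -/
theorem shult_aux (hSh : ShultStmt.{u}) (A : Type u) [AddCommGroup A] [Finite A] [Nontrivial A] (s : ℕ)
    (hs : s.Prime) [Module (ZMod s) A] {X : Type u} [Group X] [Finite X] {ρ : X →* AddMonoid.End A}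
    (hρ : Function.Injective ρ) {K : Subgroup X} [K.Normal] {x : X} {r : ℕ} (hr : r.Prime)
    (hx : orderOf x = r) (hrK : ¬ r ∣ Nat.card K) (hrm : ∀ m : ℕ, r ≠ 2 ^ m + 1)
    (hKx : K ⊔ zpowers x = ⊤) (hfix : ∀ a : A, ρ x a = a → a = 0)
    (hirr : ∀ B : AddSubgroup A, (∀ h, ∀ b ∈ B, ρ h b ∈ B) → B = ⊥ ∨ B = ⊤) : ⁅K, zpowers x⁆ = ⊥ := by
  have := Fact.mk hs
  have hinj : Function.Injective ((zl A s).comp ρ) := by
    intro a b hab
    exact hρ (zl_inj A s hab)
  have hW : ∀ W : Submodule (ZMod s) A, (∀ y : X, W.map (((zl A s).comp ρ) y) ≤ W) → W = ⊥ ∨ W = ⊤ := by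
    intro W hW
    have hB : ∀ h, ∀ b ∈ W.toAddSubgroup, ρ h b ∈ W.toAddSubgroup := by
      intro h b hb
      exact hW h ⟨b, hb, rfl⟩
    rcases hirr W.toAddSubgroup hB with h | h
    · left
      rw [eq_bot_iff]
      intro w hw
      have h1 : w ∈ W.toAddSubgroup := hw
      rw [h] at h1
      exact h1
    · right
      rw [eq_top_iff]
      intro w _
      have h1 : w ∈ W.toAddSubgroup := by rw [h]; exact AddSubgroup.mem_top w
      exact h1
  have hf : ∀ v : A, (∀ y ∈ zpowers x, ((zl A s).comp ρ) y v = v) → v = 0 := by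
    intro v hv
    exact hfix v (hv x (mem_zpowers x))
  rcases hSh X K (zpowers x) hKx r hr (by rw [Nat.card_zpowers, hx]) hrK s A ((zl A s).comp ρ) hinj hW hf with h | ⟨m, hm⟩
  · exact h
  · exact absurd hm (hrm m)

theorem pow_apply_sum (f : AddMonoid.End A) (r : ℕ) (a : A) :
    (∑ i ∈ Finset.range r, f ^ i) a = ∑ i ∈ Finset.range r, (f ^ i) a := by
  induction r with
  | zero => rfl
  | succ r ih =>
    rw [Finset.sum_range_succ, Finset.sum_range_succ, ← ih]
    rfl

/-- the irreducible case -/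
theorem shult_irr (hSh : ShultStmt.{u}) [Finite H] [Finite A] [Nontrivial A] {ρ : H →* AddMonoid.End A} {s : ℕ}
    (hs : s.Prime) (hA : ∀ a : A, s • a = 0) {K : Subgroup H} [K.Normal] {x : H} {r : ℕ} (hr : r.Prime)
    (hx : orderOf x = r) (hrK : ¬ r ∣ Nat.card K) (hrs : r ≠ s) (hrm : ∀ m : ℕ, r ≠ 2 ^ m + 1)
    (hKx : K ⊔ zpowers x = ⊤) (hn : nm ρ x r = 0)
    (hirr : ∀ B : AddSubgroup A, (∀ h, ∀ b ∈ B, ρ h b ∈ B) → B = ⊥ ∨ B = ⊤) :
    ∀ k ∈ K, ρ ⁅k, x⁆ = 1 := by
  have := Fact.mk hs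
  have hsA : ∀ {n : ℕ} {a : A}, ¬ s ∣ n → n • a = 0 → a = 0 := by
    intro n a hsn h
    have h1 : addOrderOf a ∣ n := addOrderOf_dvd_of_nsmul_eq_zero h
    have h2 : addOrderOf a ∣ s := addOrderOf_dvd_of_nsmul_eq_zero (hA a)
    rcases (Nat.dvd_prime hs).1 h2 with h3 | h3
    · exact AddMonoid.addOrderOf_eq_one_iff.1 h3
    · exact absurd (h3 ▸ h1) hsn
  have hsr : ¬ s ∣ r := fun h => hrs ((Nat.prime_dvd_prime_iff_eq hs hr).1 h).symm
  have hfix : ∀ a : A, ρ x a = a → a = 0 := by
    intro a ha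
    refine hsA hsr ?_
    have h1 : nm ρ x r a = r • a := by
      have hp : ∀ i : ℕ, (ρ x ^ i) a = a := by
        intro i
        induction i with
        | zero => rfl
        | succ i ih =>
          rw [pow_succ]
          show (ρ x ^ i) (ρ x a) = a
          rw [ha, ih]
      have h2 : nm ρ x r a = ∑ i ∈ Finset.range r, (ρ x ^ i) a := pow_apply_sum _ _ _
      rw [h2, Finset.sum_congr rfl fun i _ => hp i, Finset.sum_const, Finset.card_range]
    rw [← h1, hn]
    rfl
  obtain ⟨inst⟩ : Nonempty (Module (ZMod s) A) := ⟨AddCommGroup.zmodModule hA⟩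
  obtain ⟨Q, _, q, ρ', hqs, hρ', hρq⟩ := ker_fac ρ
  have hQf : Finite Q := Finite.of_surjective q hqs
  have hGn : (K.map q).Normal := Subgroup.Normal.map inferInstance q hqs
  have hx1 : ρ x ≠ 1 := by
    intro h
    obtain ⟨a, ha⟩ := exists_ne (0 : A)
    exact ha (hfix a (by rw [h]; rfl))
  have hqx : orderOf (q x) = r := by
    have h0 : orderOf (q x) ∣ r := by
      rw [← hx]
      exact orderOf_map_dvd q x
    rcases (Nat.dvd_prime hr).1 h0 with h | h
    · exfalso
      apply hx1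
      rw [← hρq, orderOf_eq_one_iff.1 h, map_one]
    · exact h
  have key := shult_aux hSh A s hs hρ' (K := K.map q) hr hqx (fun h => hrK (h.trans (Subgroup.card_map_dvd K q))) hrm
    (by rw [← MonoidHom.map_zpowers, ← Subgroup.map_sup, hKx, Subgroup.map_top_of_surjective q hqs])
    (fun a ha => hfix a (by rw [← hρq]; exact ha))
    (fun B hB => hirr B fun h b hb => by rw [← hρq]; exact hB (q h) b hb)
  intro k hk
  have h1 : ⁅q k, q x⁆ ∈ ⁅K.map q, zpowers (q x)⁆ :=
    Subgroup.commutator_mem_commutator ⟨k, hk, rfl⟩ (mem_zpowers (q x))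
  rw [key, mem_bot, ← map_commutatorElement] at h1
  rw [← hρq, h1, map_one]

/-- **unipotence** -/
theorem shult_unip (hSh : ShultStmt.{u}) [Finite H] {s : ℕ} (hs : s.Prime) {K : Subgroup H} [K.Normal] {x : H} {r : ℕ}
    (hr : r.Prime) (hx : orderOf x = r) (hrK : ¬ r ∣ Nat.card K) (hrs : r ≠ s) (hrm : ∀ m : ℕ, r ≠ 2 ^ m + 1)
    (hKx : K ⊔ zpowers x = ⊤) : ∀ (N : ℕ) (A : Type u) [AddCommGroup A] [Finite A] (ρ : H →* AddMonoid.End A),
    Nat.card A = N → (∀ a : A, s • a = 0) → nm ρ x r = 0 →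
    ∃ n : ℕ, ∀ d ∈ ⁅K, zpowers x⁆, (ρ d - 1) ^ n = 0 := by
  intro N
  induction N using Nat.strong_induction_on with
  | _ N ih =>
    intro A _ _ ρ hN hA hn
    rcases subsingleton_or_nontrivial A with hsub | hnt
    · exact ⟨1, fun d _ => by ext a; exact Subsingleton.elim _ _⟩
    by_cases hirr : ∀ B : AddSubgroup A, (∀ h, ∀ b ∈ B, ρ h b ∈ B) → B = ⊥ ∨ B = ⊤
    · refine ⟨1, fun d hd => ?_⟩
      have h1 : ⁅K, zpowers x⁆ ≤ ρ.ker := by
        -- generators
        have h2 : ∀ k ∈ K, ρ k * ρ x = ρ x * ρ k := by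
          intro k hk
          have h3 := shult_irr hSh hs hA hr hx hrK hrs hrm hKx hn hirr k hk
          have h4 : k * x = ⁅k, x⁆ * (x * k) := by rw [commutatorElement_def]; group
          rw [← map_mul, h4, map_mul, h3, one_mul, map_mul]
        rw [Subgroup.commutator_le]
        rintro k hk _ ⟨j, rfl⟩
        have h3 : ρ (k * x ^ j) = ρ (x ^ j * k) := by
          have hc : Commute (ρ k) (ρ x) := h2 k hk
          obtain ⟨l, hl⟩ := (isOfFinOrder_of_finite x).mem_powers_iff_mem_zpowers.2 (⟨j, rfl⟩ : x ^ j ∈ zpowers x)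
          have hl' : x ^ j = x ^ l := hl.symm
          rw [map_mul, map_mul, hl', map_pow]
          exact hc.pow_right l
        show ρ ⁅k, x ^ j⁆ = 1
        have h4 : ⁅k, x ^ j⁆ = (k * x ^ j) * (x ^ j * k)⁻¹ := by rw [commutatorElement_def]; group
        rw [h4, map_mul, h3, ← map_mul, mul_inv_cancel, map_one]
      have h2 : ρ d = 1 := h1 hd
      rw [h2, sub_self, pow_one]
    · push Not at hirr
      obtain ⟨B, hB, hB0, hB1⟩ := hirr
      have hBc : Nat.card B < N := by
        rw [← hN]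
        refine lt_of_le_of_ne (AddSubgroup.card_le_card_addGroup B) fun h => hB1 (AddSubgroup.card_eq_iff_eq_top B |>.1 h)
      have hQc : Nat.card (A ⧸ B) < N := by
        have h1 := AddSubgroup.card_eq_card_quotient_mul_card_addSubgroup B
        rw [hN] at h1
        have h2 : 1 < Nat.card B := by
          have h3 : 0 < Nat.card B := Nat.card_pos
          have h4 : Nat.card B ≠ 1 := fun h => hB0 (AddSubgroup.card_eq_one.1 h)
          omega
        rw [h1]
        exact lt_mul_of_one_lt_right Nat.card_pos h2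
      have hnr : nm (res ρ B hB) x r = 0 := by
        ext b
        have h1 : ∀ i : ℕ, (((res ρ B hB x ^ i) b : B) : A) = (ρ x ^ i) (b : A) := by
          intro i
          rw [← map_pow, ← map_pow]
          rfl
        have h2 : ((nm (res ρ B hB) x r b : B) : A) = nm ρ x r (b : A) := by
          unfold nm
          rw [pow_apply_sum, pow_apply_sum]
          rw [AddSubgroup.val_finsetSum]
          exact Finset.sum_congr rfl fun i _ => h1 i
        rw [h2, hn]
        rfl
      have hnq : nm (quo ρ B hB) x r = 0 := by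
        refine AddMonoidHom.ext fun a => ?_
        obtain ⟨a, rfl⟩ := QuotientAddGroup.mk_surjective a
        have h1 : ∀ i : ℕ, (quo ρ B hB x ^ i) (a : A ⧸ B) = (((ρ x ^ i) a : A) : A ⧸ B) := by
          intro i
          rw [← map_pow, ← map_pow]
          rfl
        have h2 : nm (quo ρ B hB) x r (a : A ⧸ B) = ((nm ρ x r a : A) : A ⧸ B) := by
          unfold nm
          rw [pow_apply_sum, pow_apply_sum]
          rw [QuotientAddGroup.mk_sum]
          exact Finset.sum_congr rfl fun i _ => h1 i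
        show nm (quo ρ B hB) x r (a : A ⧸ B) = 0
        rw [h2, hn]
        rfl
      obtain ⟨n1, h1⟩ := ih _ hBc B (res ρ B hB) rfl (fun b => Subtype.ext (hA b)) hnr
      obtain ⟨n2, h2⟩ := ih _ hQc (A ⧸ B) (quo ρ B hB) rfl (fun b => by
        obtain ⟨a, rfl⟩ := QuotientAddGroup.mk_surjective b
        rw [← QuotientAddGroup.mk_nsmul, hA]
        rfl) hnq
      refine ⟨n1 + n2, fun d hd => ?_⟩
      have e1 : ∀ b : B, ((ρ d - 1) ^ n1) (b : A) = 0 := by
        intro b
        have h3 : ∀ n : ℕ, ((((res ρ B hB d - 1) ^ n) b : B) : A) = ((ρ d - 1) ^ n) (b : A) := by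
          intro n
          induction n generalizing b with
          | zero => rfl
          | succ n ihn =>
            rw [pow_succ, pow_succ]
            show ((((res ρ B hB d - 1) ^ n) ((res ρ B hB d - 1) b) : B) : A) = ((ρ d - 1) ^ n) ((ρ d - 1) (b : A))
            rw [ihn]
            rfl
        rw [← h3, h1 d hd]
        rfl
      have e2 : ∀ a : A, ((ρ d - 1) ^ n2) a ∈ B := by
        intro a
        have h3 : ∀ n : ℕ, ∀ a : A, ((quo ρ B hB d - 1) ^ n) (a : A ⧸ B) = ((((ρ d - 1) ^ n) a : A) : A ⧸ B) := by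
          intro n
          induction n with
          | zero => intro a; rfl
          | succ n ihn =>
            intro a
            rw [pow_succ, pow_succ]
            show ((quo ρ B hB d - 1) ^ n) ((quo ρ B hB d - 1) (a : A ⧸ B)) =
              ((((ρ d - 1) ^ n) ((ρ d - 1) a) : A) : A ⧸ B)
            rw [← ihn]
            rfl
        rw [← QuotientAddGroup.eq_zero_iff, ← h3, h2 d hd]
        rfl
      ext a
      rw [pow_add]
      exact e1 ⟨_, e2 a⟩

end

end Cfsg.Agent.H998.SpAlt
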