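import Cfsg.Agent.H998.SpAlt.Shult
import Cfsg.Agent.S3041

/-!
# The theorem of Shult over the prime field (helper998, for S3666)
-/

set_option autoImplicit false

namespace Cfsg.Agent.H998.SpAlt

universe u

theorem shultStmt : ShultStmt.{u} := fun _ _ _ G R _ hX r hr hR hcop _ _ _ _ _ _ _ ρ hf hirr hfix =>
  (Cfsg.Agent.S3041.result G R hX r hr hR hcop ρ hf hirr hfix).imp id fun h => h.1

end Cfsg.Agent.H998.SpAlt
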