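import Cfsg.Agent.H998.SpAlt.SuzDat
import Cfsg.Agent.H998.SpAlt.AltSpec
import Cfsg.Agent.H998.SpAlt.Pull

/-!
# S3666, the alternating group of degree 16 (helper998)

The theorem of Shult (S3041) is the hypothesis `ShultStmt`.
-/

set_option autoImplicit false

namespace Cfsg.Agent.H998.SpAlt

open Cfsg Subgroup

universe u v

theorem DSuz.congr {X Y : Type*} [Group X] [Group Y] (e : X ≃* Y) (h : DSuz X) : DSuz Y := by
  obtain ⟨⟨x, h, hx, hh, hc⟩, ⟨y, k, hy, hk, hd⟩, z, hz⟩ := h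
  refine ⟨⟨e x, e h, ?_, ?_, ?_⟩, ⟨e y, e k, ?_, ?_, ?_⟩, e z, ?_⟩
  · rw [MulEquiv.orderOf_eq, hx]
  · rw [MulEquiv.orderOf_eq, hh]
  · rw [← map_inv, ← map_mul, ← map_mul, hc, map_pow]
  · rw [MulEquiv.orderOf_eq, hy]
  · rw [MulEquiv.orderOf_eq, hk]
  · rw [← map_inv, ← map_mul, ← map_mul, hd, map_pow]
  · rw [MulEquiv.orderOf_eq, hz]

/-- **S3666, degree 16.** -/
theorem sixteen_false (hSh : ShultStmt.{u}) {G : Type u} [Group G] [Finite G]
    (h : ∀ m, (∃ g : G, orderOf g = m) ↔ ∃ a : alternatingGroup (Fin 16), orderOf a = m) {X : Type v} [Group X]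
    (hX : Spor.IsoSuz X) (hO : OI X) (hst : St G X) : False := by
  obtain ⟨eX⟩ := hX
  have hSs : IsSimpleGroup Spor.Suz := Cfsg.Agent.SporadicRecognition.SuzOrder.simple
  have hsimple : IsSimpleGroup X := eX.isSimpleGroup
  have hno : ∀ m, ((gen (16 + 16) 16 16).all fun x => !(Nat.beq x.1 m) || x.2) = true → ¬ Has G m := by
    intro m hm hh
    exact alt_not hm ((h m).1 hh)
  have h26 : ¬ Has G 26 := hno 26 (by decide +kernel)
  have h55 : Has G 55 := by
    refine (h 55).2 ?_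
    exact alt_has (n := 16) {11, 5} (by decide) (by decide) (by decide)
  have h13G : Has G 13 := by
    refine (h 13).2 ?_
    exact alt_has (n := 16) {13} (by decide) (by decide) (by decide)
  obtain ⟨K, hKn, S, hSn, hKs, hC, ⟨e⟩, hd⟩ := hst
  have hXS : Nat.card ↥S = Nat.card X := Nat.card_congr e.toEquiv
  -- `13 ∤ |K|`
  have h13K : ¬ 13 ∣ Nat.card ↥K := by
    refine not_dvd_K K S (by norm_num) fun k hk => ?_
    rw [hXS]
    refine hd 13 (by norm_num) (by norm_num) ?_ h26 k hk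
    obtain ⟨g, hg⟩ := h13G
    have h1 := orderOf_dvd_natCard g
    rwa [hg] at h1
  have h511 : 5 ∣ Nat.card ↥K ∨ 11 ∣ Nat.card ↥K := by
    by_contra hcon
    push Not at hcon
    have h1 : Nat.Coprime 55 (Nat.card ↥K) := by
      have : (55 : ℕ) = 5 * 11 := by norm_num
      rw [this]
      exact Nat.Coprime.mul_left ((Nat.Prime.coprime_iff_not_dvd (by norm_num)).2 hcon.1)
        ((Nat.Prime.coprime_iff_not_dvd (by norm_num)).2 hcon.2)
    obtain ⟨s, hs⟩ := has_S K S hC (hO.congr e.symm) (by decide) h1 h55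
    exact SuzDat.no_fifty_five ⟨eX (e s), by rw [MulEquiv.orderOf_eq, MulEquiv.orderOf_eq, hs]⟩
  obtain ⟨G0, f, hf, hsol, hker⟩ := exists_surj K S e hKs
  have hG0 : ∀ {m : ℕ}, ¬ Has G m → ¬ Has ↥G0 m := by
    rintro m hm ⟨g, hg⟩
    exact hm ⟨(g : G), by rw [Subgroup.orderOf_coe, hg]⟩
  exact suz_core hSh (SuzDat.dsuz.congr eX.symm) f hf hsol (by rw [hker]; exact h511) (by rw [hker]; exact h13K)
    (hG0 h26) (hG0 (hno 65 (by decide +kernel))) (hG0 (hno 143 (by decide +kernel)))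
    (hG0 (hno 25 (by decide +kernel))) (hG0 (hno 44 (by decide +kernel)))

end Cfsg.Agent.H998.SpAlt
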