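import Cfsg.Agent.H998.SpAlt.ShultTwo
import Cfsg.Agent.H998.SpAlt.JTwoC

/-!
# The core of the case `n = 16` (helper998, for S3666)
-/

set_option autoImplicit false
set_option linter.unusedSectionVars false

namespace Cfsg.Agent.H998.SpAlt

open Subgroup
open scoped commutatorElement

universe u v

/-- the data of `Suz` which are used -/
def DSuz (X : Type*) [Group X] : Prop :=
  (∃ x h : X, orderOf x = 11 ∧ orderOf h = 5 ∧ h * x * h⁻¹ = x ^ 3) ∧
  (∃ x h : X, orderOf x = 5 ∧ orderOf h = 4 ∧ h * x * h⁻¹ = x ^ 2) ∧ ∃ x : X, orderOf x = 13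

/-- lifts of Frobenius groups of order prime to the kernel -/
theorem exists_frob' {G1 : Type u} [Group G1] [Finite G1] {X : Type v} [Group X] (f : G1 →* X)
    (hf : Function.Surjective f) {p : ℕ} (hp : p.Prime) (hpk : ¬ p ∣ Nat.card f.ker) {x0 h0 : X} {n k : ℕ}
    (hx : orderOf x0 = p) (hh : orderOf h0 = n) (hcop : n.Coprime (Nat.card f.ker))
    (hc : h0 * x0 * h0⁻¹ = x0 ^ k) (hkp : p.Coprime k) :
    ∃ x h : G1, f x = x0 ∧ f h = h0 ∧ orderOf x = p ∧ orderOf h = n ∧ h * x * h⁻¹ = x ^ k := by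
  obtain ⟨x, hfx, hxo⟩ := exists_lift f hf hx ((Nat.Prime.coprime_iff_not_dvd hp).2 hpk)
  have hxk : orderOf (x ^ k) = p := by
    rw [Nat.Coprime.orderOf_pow (by rw [hxo]; exact hkp), hxo]
  obtain ⟨h, hfh, hhx⟩ := lift_conj f hf hp hpk hxo hxk (h0 := h0) (by rw [hfx, map_pow, hfx, hc])
  obtain ⟨j, hj1, hj2⟩ := exists_lift_pow f h (n := n) (by rw [hfh, hh]) hcop
  refine ⟨x, h ^ j, hfx, by rw [hj1, hfh], hxo, hj2, ?_⟩
  have hpow : ∀ l : ℕ, h ^ l * x * (h ^ l)⁻¹ = x ^ k ^ l := by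
    intro l
    induction l with
    | zero => simp
    | succ l ih =>
      have e : h ^ (l + 1) * x * (h ^ (l + 1))⁻¹ = h * (h ^ l * x * (h ^ l)⁻¹) * h⁻¹ := by rw [pow_succ']; group
      rw [e, ih, ← conj_pow, hhx, ← pow_mul, pow_succ']
  rw [hpow, pow_eq_pow_iff_modEq, hxo, ← hx, ← pow_eq_pow_iff_modEq, ← hfx, ← map_pow, ← hpow, map_mul, map_mul,
    map_inv, hj1, hfh, hfx, hc]

/-- factorisation through the image, with a second homomorphism -/
theorem ker_fac' {H : Type u} [Group H] {M : Type v} [Monoid M] (ρ : H →* M) {X : Type*} [Group X] (f : H →* X)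
    (hk : ∀ h, ρ h = 1 → f h = 1) :
    ∃ (Q : Type u) (_ : Group Q) (q : H →* Q) (ρ' : Q →* M) (f' : Q →* X),
      Function.Surjective q ∧ Function.Injective ρ' ∧ (∀ h : H, ρ' (q h) = ρ h) ∧ ∀ h : H, f' (q h) = f h := by
  refine ⟨H ⧸ ρ.ker, inferInstance, QuotientGroup.mk' ρ.ker, QuotientGroup.lift ρ.ker ρ fun _ h => h,
    QuotientGroup.lift ρ.ker f fun h hh => hk h hh,
    QuotientGroup.mk'_surjective _, ?_, fun h => rfl, fun h => rfl⟩
  intro a b hab
  obtain ⟨a, rfl⟩ := QuotientGroup.mk'_surjective _ a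
  obtain ⟨b, rfl⟩ := QuotientGroup.mk'_surjective _ b
  have h1 : ρ a = ρ b := hab
  refine QuotientGroup.eq.2 ?_
  rw [MonoidHom.mem_ker, map_mul, ← h1, ← map_mul, inv_mul_cancel, map_one]

/-- norms and quotients -/
theorem hnm_quot {G : Type*} [Group G] [Finite G] {G1 : Type*} [Group G1] [Finite G1] {Q : Type*} [Group Q] {A : Type*}
    [AddCommGroup A] {ρ : G1 →* AddMonoid.End A} {ρ' : Q →* AddMonoid.End A} {q : G1 →* Q}
    (hq : Function.Surjective q) (hρ : ∀ g, ρ' (q g) = ρ g) {s : ℕ} (hs : s.Prime) (hA : ∀ a : A, s • a = 0)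
    (hnm : ∀ g : G1, nm ρ g (orderOf g) ≠ 0 → Has G (orderOf g * s)) (hG : ∀ m, Has G1 m → Has G m) {y : Q}
    (hy : nm ρ' y (orderOf y) ≠ 0) : Has G (orderOf y * s) := by
  obtain ⟨g, rfl⟩ := hq y
  obtain ⟨c, hc⟩ := orderOf_map_dvd q g
  by_cases hsc : s ∣ c
  · obtain ⟨d, rfl⟩ := hsc
    refine hG _ (has_of_dvd g ?_)
    rw [hc]
    exact Nat.mul_dvd_mul_left _ (dvd_mul_right s d)
  · refine (hnm g ?_).dvd (Nat.mul_dvd_mul_right (orderOf_map_dvd q g) s)
    obtain ⟨a, ha⟩ : ∃ a, nm ρ' (q g) (orderOf (q g)) a ≠ 0 := by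
      by_contra hcon
      push Not at hcon
      exact hy (AddMonoidHom.ext hcon)
    intro h0
    refine nsmul_ne hs hA hsc ha ?_
    -- `nm ρ g (n c) = c • nm ρ' (q g) n`
    have h1 : ∀ c : ℕ, nm ρ g (orderOf (q g) * c) = c • nm ρ' (q g) (orderOf (q g)) := by
      intro c
      induction c with
      | zero => rw [mul_zero, zero_smul]; rfl
      | succ c ih =>
        have h2 : nm ρ g (orderOf (q g) * (c + 1)) =
            nm ρ g (orderOf (q g) * c) + ∑ i ∈ Finset.range (orderOf (q g)), ρ g ^ (orderOf (q g) * c + i) := by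
          unfold nm
          rw [mul_add, mul_one, Finset.sum_range_add]
        rw [h2, ih, succ_nsmul]
        congr 1
        unfold nm
        refine Finset.sum_congr rfl fun i _ => ?_
        rw [pow_add, pow_mul, ← hρ, ← map_pow, pow_orderOf_eq_one, map_one, one_pow, one_mul]
    have h2 := h1 c
    rw [← hc, h0] at h2
    have h3 : (c • nm ρ' (q g) (orderOf (q g))) a = c • nm ρ' (q g) (orderOf (q g)) a := rfl
    rw [← h3, ← h2]
    rfl

/-- **`Suz`** -/
theorem suz_core (hSh : ShultStmt.{u}) {G : Type u} [Group G] [Finite G] {X : Type v} [Group X] [IsSimpleGroup X]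
    (hD : DSuz X) (f : G →* X) (hf : Function.Surjective f) (hsol : Group.IsSolvable ↥f.ker)
    (h511 : 5 ∣ Nat.card f.ker ∨ 11 ∣ Nat.card f.ker) (h13 : ¬ 13 ∣ Nat.card f.ker) (h26 : ¬ Has G 26)
    (h65 : ¬ Has G 65) (h143 : ¬ Has G 143) (h25 : ¬ Has G 25) (h44 : ¬ Has G 44) : False := by
  obtain ⟨G', _, _, q, f', V, s, hq, hqf, hVn, hVK, hV1, hVc, hs, hs2, hVs, hmin, hrel, -⟩ :=
    exists_layer (fun p => p = 5 ∨ p = 11) _ G rfl f hf hsol (by
      rcases h511 with h | h
      · exact ⟨5, by norm_num, Or.inl rfl, h⟩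
      · exact ⟨11, by norm_num, Or.inr rfl, h⟩)
  have hf' : Function.Surjective f' := by
    intro x
    obtain ⟨g, rfl⟩ := hf x
    exact ⟨q g, hqf g⟩
  have h13' : ¬ 13 ∣ Nat.card f'.ker := by
    intro hd
    apply h13
    have h4 : f'.ker = f.ker.map q := by
      ext z
      obtain ⟨g, rfl⟩ := hq z
      constructor
      · intro h
        exact ⟨g, MonoidHom.mem_ker.2 (by rw [← hqf]; exact h), rfl⟩
      · rintro ⟨g', hg', e⟩
        rw [← e]
        exact MonoidHom.mem_ker.2 (by rw [hqf]; exact hg')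
    rw [h4] at hd
    exact hd.trans (Subgroup.card_map_dvd _ _)
  -- the quotient
  have hfVK : V ≤ f'.ker := hVK
  let f1 : G' ⧸ V →* X := QuotientGroup.lift V f' fun v hv => hfVK hv
  have hf1 : Function.Surjective f1 := by
    intro x
    obtain ⟨g, rfl⟩ := hf' x
    exact ⟨(g : G' ⧸ V), rfl⟩
  have hk1 : f1.ker = f'.ker.map (QuotientGroup.mk' V) := by
    ext z
    obtain ⟨g, rfl⟩ := QuotientGroup.mk'_surjective V z
    constructor
    · intro h
      exact ⟨g, h, rfl⟩
    · rintro ⟨g', hg', e⟩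
      rw [← e]
      exact hg'
  have hcard1 : Nat.card f1.ker = V.relIndex f'.ker := by
    have h3 : ((QuotientGroup.mk' V).ker).relIndex f'.ker = Nat.card ↥(f'.ker.map (QuotientGroup.mk' V)) :=
      Subgroup.relIndex_ker _ _
    rw [QuotientGroup.ker_mk'] at h3
    rw [hk1, h3]
  have h5K : ¬ 5 ∣ Nat.card f1.ker := by rw [hcard1]; exact hrel 5 (by norm_num) (Or.inl rfl)
  have h11K : ¬ 11 ∣ Nat.card f1.ker := by rw [hcard1]; exact hrel 11 (by norm_num) (Or.inr rfl)
  have h13K : ¬ 13 ∣ Nat.card f1.ker := by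
    intro hd
    apply h13'
    rw [hk1] at hd
    exact hd.trans (Subgroup.card_map_dvd _ _)
  have hG' : ∀ m, Has G' m → Has G m := fun m h => Has.of_surj q hq h
  have hG1 : ∀ m, Has (G' ⧸ V) m → Has G' m := fun m h => Has.of_surj _ (QuotientGroup.mk'_surjective V) h
  obtain ⟨A, _, _, _, ρ, hA, hnm, hirr⟩ := exists_qact hVn hV1 hVc hs hVs
  replace hirr := hirr hmin
  obtain ⟨⟨x0, h0, hx0, hh0, hxh0⟩, ⟨x1, h1, hx1, hh1, hxh1⟩, z0, hz0⟩ := hD
  rcases hs2 with rfl | rfl
  · -- `s = 5`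
    obtain ⟨x, h, hfx, hfh, hxo, hho, hhx⟩ := exists_frob' f1 hf1 (by norm_num : Nat.Prime 11) h11K hx0 hh0
      ((Nat.Prime.coprime_iff_not_dvd (by norm_num)).2 h5K) hxh0 (by norm_num)
    have hk : ∀ i, 0 < i → i < 5 → ¬ 3 ^ i ≡ 1 [MOD 11] := by
      intro i hi hi6
      interval_cases i <;> decide
    have hn0 : nm ρ h 5 = 0 := by
      by_contra hne
      have := hnm h (by rw [hho]; exact hne)
      rw [hho] at this
      exact h25 (hG' _ this)
    have hρ := act_frob hA (by norm_num : Nat.Prime 11) (by norm_num) hxo (by norm_num)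
      (by rw [← hho]; exact pow_orderOf_eq_one h) hhx hk hn0
    refine h65 (hG' _ (trivial_has f1 hf1 hs hA hnm hG1 hρ ?_ hz0 (by norm_num)))
    rw [hfx]
    intro h1
    rw [h1, orderOf_one] at hx0
    omega
  · -- `s = 11`
    have hker : ∀ t, ρ t = 1 → f1 t = 1 := by
      intro t ht
      by_contra ht1
      exact h143 (hG' _ (trivial_has f1 hf1 hs hA hnm hG1 ht ht1 hz0 (by norm_num)))
    obtain ⟨Q, _, q2, ρ', f2, hq2, hρ', hρq, hf2q⟩ := ker_fac' ρ f1 hker
    have hQf : Finite Q := Finite.of_surjective q2 hq2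
    have hf2 : Function.Surjective f2 := by
      intro x
      obtain ⟨g, rfl⟩ := hf1 x
      exact ⟨q2 g, hf2q g⟩
    have hk2 : f2.ker = f1.ker.map q2 := by
      ext z
      obtain ⟨g, rfl⟩ := hq2 z
      constructor
      · intro h
        exact ⟨g, MonoidHom.mem_ker.2 (by rw [← hf2q]; exact h), rfl⟩
      · rintro ⟨g', hg', e⟩
        rw [← e]
        exact MonoidHom.mem_ker.2 (by rw [hf2q]; exact hg')
    have hd2 : Nat.card f2.ker ∣ Nat.card f1.ker := by
      rw [hk2]
      exact Subgroup.card_map_dvd _ _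
    have hd3 : Nat.card q2.ker ∣ Nat.card f1.ker := by
      apply Subgroup.card_dvd_of_le
      intro t ht
      rw [MonoidHom.mem_ker] at ht ⊢
      rw [← hf2q, ht, map_one]
    -- elements of order `13` centralize the kernel
    have hcent : ∀ y : Q, orderOf y = 13 → ∀ k ∈ f2.ker, k * y = y * k := by
      intro y hy k hk
      obtain ⟨x, rfl, hx⟩ := exists_lift q2 hq2 hy ((Nat.Prime.coprime_iff_not_dvd (by norm_num)).2
        fun h => h13K (h.trans hd3))
      rw [hk2] at hk
      obtain ⟨k, hk, rfl⟩ := hk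
      have hn0 : nm ρ x 13 = 0 := by
        by_contra hne
        have := hnm x (by rw [hx]; exact hne)
        rw [hx] at this
        exact h143 (hG' _ this)
      have h2 := shult_step hSh hs hA f1.normal_ker (x := x) (by norm_num : Nat.Prime 13) hx h13K (by norm_num)
        (fun m hm => ?_) hn0 hirr k hk
      · rw [← hρq] at h2
        have h3 : q2 ⁅k, x⁆ = 1 := hρ' (h2.trans (map_one ρ').symm)
        rw [map_commutatorElement] at h3
        exact commutatorElement_eq_one_iff_mul_comm.1 h3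
      · have hm4 : m < 4 := by
          by_contra hcon
          have : 2 ^ 4 ≤ 2 ^ m := Nat.pow_le_pow_right (by norm_num) (by omega)
          omega
        interval_cases m <;> omega
    obtain ⟨y, hfy, hy⟩ := exists_lift f2 hf2 hz0 ((Nat.Prime.coprime_iff_not_dvd (by norm_num)).2
        fun h => h13K (h.trans hd2))
    let E : Subgroup Q := centralizer (f2.ker : Set Q)
    have hyE : y ∈ E := mem_centralizer_iff.2 fun k hk => hcent y hy k hk
    have hEn : E.Normal := inferInstance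
    let f3 : ↥E →* X := f2.comp E.subtype
    have hf3 : Function.Surjective f3 := by
      have h1 : (E.map f2).Normal := hEn.map f2 hf2
      have h2 : E.map f2 = ⊤ := by
        rcases h1.eq_bot_or_eq_top with h | h
        · exfalso
          have h2 : f2 y ∈ E.map f2 := ⟨y, hyE, rfl⟩
          rw [h, mem_bot, hfy] at h2
          rw [h2, orderOf_one] at hz0
          omega
        · exact h
      intro x
      obtain ⟨e, he, hx⟩ : x ∈ E.map f2 := by rw [h2]; exact mem_top x
      exact ⟨⟨e, he⟩, hx⟩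
    have hd4 : Nat.card f3.ker ∣ Nat.card f2.ker := by
      have h1 : f3.ker.map E.subtype ≤ f2.ker := by
        rintro _ ⟨k, hk, rfl⟩
        exact hk
      have h2 := Subgroup.card_dvd_of_le h1
      rwa [Nat.card_congr (f3.ker.equivMapOfInjective E.subtype E.subtype_injective).toEquiv.symm] at h2
    have h2K : ¬ 2 ∣ Nat.card f3.ker := by
      intro hd
      obtain ⟨z, hz⟩ := exists_prime_orderOf_dvd_card' 2 hd
      have hzo : orderOf ((z : ↥E) : Q) = 2 := by rw [Subgroup.orderOf_coe, Subgroup.orderOf_coe, hz]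
      have hzk : ((z : ↥E) : Q) ∈ f2.ker := z.2
      have h2 := hcent y hy _ hzk
      have h3 : Has Q (2 * 13) := has_mul h2 (dvd_of_eq hzo.symm) (dvd_of_eq hy.symm) (by norm_num)
      exact h26 (hG' _ (hG1 _ (Has.of_surj q2 hq2 h3)))
    obtain ⟨x, h, hfx, hfh, hxo, hho, hhx⟩ := exists_frob' f3 hf3 (by norm_num : Nat.Prime 5)
      (fun h => h5K ((h.trans hd4).trans hd2)) hx1 hh1
      ((Nat.Prime.coprime_iff_not_dvd (by norm_num)).2 h2K |>.pow_left 2) hxh1 (by norm_num)
    have hk : ∀ i, 0 < i → i < 4 → ¬ 2 ^ i ≡ 1 [MOD 5] := by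
      intro i hi hi6
      interval_cases i <;> decide
    have hho' : orderOf (h : Q) = 4 := by rw [Subgroup.orderOf_coe, hho]
    have hn0 : nm (ρ'.comp E.subtype) h 4 = 0 := by
      by_contra hne
      have := hnm_quot (G := G') hq2 hρq hs hA hnm hG1 (y := (h : Q)) (by rw [hho']; exact hne)
      rw [hho'] at this
      exact h44 (hG' _ this)
    have hρ := act_frob (ρ := ρ'.comp E.subtype) hA (by norm_num : Nat.Prime 5) (by norm_num) hxo (by norm_num)
      (by rw [← hho]; exact pow_orderOf_eq_one h) hhx hk hn0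
    have h2 : (x : Q) = 1 := hρ' (hρ.trans (map_one ρ').symm)
    have h3 : x = 1 := Subtype.ext h2
    rw [h3, orderOf_one] at hxo
    omega

end Cfsg.Agent.H998.SpAlt
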