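import Cfsg.Agent.SporadicRecognition.SuzOrder
import Cfsg.Agent.Lib.PermNetFix
import Cfsg.Agent.H998.SpAlt.SuzCore

/-!
# The Suzuki group: two Frobenius groups, no element of order 55 (helper998, for S3666)
-/

set_option autoImplicit false
set_option maxRecDepth 100000

namespace Cfsg.Agent.H998.SpAlt.SuzDat

open Cfsg Cfsg.Spor Cfsg.Agent.Lib.PermNet Cfsg.Agent.Lib.PermNetOrbit Cfsg.Agent.SporadicRecognition.SuzPhi
  Cfsg.Agent.SporadicRecognition.SuzOrder Cfsg.Agent.Lib.PermNetFix Subgroup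

theorem el_append (w w' : List Suz.Gen) : el (w ++ w') = el w * el w' := by
  rw [el, List.map_append, List.prod_append]; rfl

theorem el_eq {w w' : List Suz.Gen} (h : checkEq 11 (wd w) (wd w') = true) : el w = el w' := by
  apply φ_injective
  rw [φ_el, φ_el]
  exact wperm_eq_of_checkEq (wd_ok w) (wd_ok w') h

theorem el_rp (w : List Suz.Gen) (m : ℕ) : el (rp w m) = el w ^ m := by
  rw [el, rp_prod]; rfl

theorem el_pow {w : List Suz.Gen} {m : ℕ} (h : triv (rp w m) = true) : el w ^ m = 1 := by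
  apply φ_injective
  rw [map_pow, φ_el, wperm_wd, ← rp_prod, map_one]
  exact triv_spec h

theorem el_ne {w : List Suz.Gen} (p : ℕ) (h : Nat.beq (ptWord (wd w) p) p = false) : el w ≠ 1 := by
  intro h0
  have h1 : φ (el w) p = p := by rw [h0, map_one]; rfl
  rw [φ_el, ← ptWord_eq (wd_ok w)] at h1
  rw [h1] at h
  exact absurd h (by simp)

/-! ### the Frobenius groups -/

def x1 : List Suz.Gen := [.c, .b, .a]
def h1 : List Suz.Gen :=
  [.b, .f, .g, .b, .c, .d, .f, .b, .a, .b, .c, .f, .b, .g, .f, .b, .c, .d, .c, .b, .g, .f, .b]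
def x2 : List Suz.Gen := [.g, .f, .e, .d, .c, .b]
def h2 : List Suz.Gen :=
  [.c, .b, .d, .e, .g, .b, .c, .d, .c, .e, .f, .b, .c, .d, .c, .b, .g, .f, .d, .e, .b, .a, .b, .c, .d, .c, .b, .a, .b]

theorem dsuz : DSuz Suz := by
  have hx1 : orderOf (el x1) = 5 :=
    orderOf_eq_prime (hp := ⟨by norm_num⟩) (el_pow (by decide +kernel)) (el_ne 1 (by decide +kernel))
  have hx2 : orderOf (el x2) = 11 :=
    orderOf_eq_prime (hp := ⟨by norm_num⟩) (el_pow (by decide +kernel)) (el_ne 1 (by decide +kernel))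
  have hc1 : el h1 * el x1 * (el h1)⁻¹ = el x1 ^ 2 := by
    rw [mul_inv_eq_iff_eq_mul, pow_two, ← el_append, ← el_append, ← el_append]
    exact el_eq (by decide +kernel)
  have hc2 : el h2 * el x2 * (el h2)⁻¹ = el x2 ^ 3 := by
    rw [mul_inv_eq_iff_eq_mul, ← el_rp, ← el_append, ← el_append]
    exact el_eq (by decide +kernel)
  have hh1 : orderOf (el h1) = 4 := by
    refine (orderOf_frob hx1 (by norm_num) (el_pow (by decide +kernel)) hc1 ?_).1
    intro i hi hi6
    interval_cases i <;> decide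
  have hh2 : orderOf (el h2) = 5 := by
    refine (orderOf_frob hx2 (by norm_num) (el_pow (by decide +kernel)) hc2 ?_).1
    intro i hi hi6
    interval_cases i <;> decide
  have h13 : 13 ∣ Nat.card Suz := by rw [card_Suz]; norm_num
  have : Fact (Nat.Prime 13) := ⟨by norm_num⟩
  obtain ⟨z, hz⟩ := exists_prime_orderOf_dvd_card' 13 h13
  exact ⟨⟨el x2, el h2, hx2, hh2, hc2⟩, ⟨el x1, el h1, hx1, hh1, hc1⟩, z, hz⟩

/-! ### point stabilizers have order prime to 11 -/

theorem trans0 {p : ℕ} (hp : p < 1782) : ∃ g : Suz, φ g 0 = p := by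
  have h1 : p ∈ {p : ℕ | U0.testBit p = true} := by
    show U0.testBit p = true
    rw [U0_bits, decide_eq_true_eq]
    exact hp
  rw [← orb0] at h1
  obtain ⟨g, -, hg⟩ := h1
  exact ⟨g, hg⟩

theorem stab_eleven : ¬ 11 ∣ Nat.card (stabL φ [0]) := by
  let _ : MulAction Suz ℕ := MulAction.compHom ℕ φ
  have h1 : MulAction.stabilizer Suz (0 : ℕ) = stabL φ [0] := by
    ext g
    rw [MulAction.mem_stabilizer_iff, mem_stabL]
    constructor
    · intro h q hq
      rw [List.mem_singleton] at hq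
      rw [hq]
      exact h
    · intro h
      exact h 0 (by simp)
  have h2 : (MulAction.orbit Suz (0 : ℕ)).ncard = 1782 := by
    have h3 : MulAction.orbit Suz (0 : ℕ) = {p : ℕ | U0.testBit p = true} := by
      rw [← orb0, closure_S7]
      ext p
      constructor
      · rintro ⟨g, hg⟩
        exact ⟨g, mem_top _, hg⟩
      · rintro ⟨g, -, hg⟩
        exact ⟨g, hg⟩
    rw [h3]
    exact ncard_testBit (k := 11) (U := U0) (m := 1782) (by decide +kernel) (by decide +kernel)
  have h3 := MulAction.index_stabilizer Suz (0 : ℕ)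
  rw [h2, h1] at h3
  have h4 := Subgroup.card_mul_index (stabL φ [0])
  rw [h3, card_Suz] at h4
  intro hd
  obtain ⟨c, hc⟩ := hd
  rw [hc] at h4
  omega

theorem eleven_fpf {u : Suz} (hu : orderOf u = 11) {p : ℕ} (hp : p < 1782) : φ u p ≠ p := by
  intro h
  obtain ⟨g, rfl⟩ := trans0 hp
  have h1 : g⁻¹ * u * g ∈ stabL φ [0] := by
    intro q hq
    rw [List.mem_singleton] at hq
    rw [hq, map_mul, map_mul, Equiv.Perm.mul_apply, Equiv.Perm.mul_apply, h, map_inv]
    exact Equiv.symm_apply_apply (φ g) 0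
  have h2 : orderOf (g⁻¹ * u * g) = 11 := by
    have h3 : g⁻¹ * u * g = MulAut.conj g⁻¹ u := by simp
    rw [h3, MulEquiv.orderOf_eq, hu]
  apply stab_eleven
  rw [← h2]
  exact Subgroup.orderOf_dvd_natCard _ h1

/-- an element whose number of moved points is prime to 11 -/
theorem not_comm {y u : Suz} (hu : orderOf u = 11) (hc : Commute u y) {m : ℕ}
    (hm : {p : ℕ | φ y p ≠ p}.ncard = m) (hlt : ∀ p, φ y p ≠ p → p < 1782) : 11 ∣ m := by
  have hfin : {p : ℕ | φ y p ≠ p}.Finite := (Set.finite_lt_nat 1782).subset hlt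
  have hf : Finite {p : ℕ | φ y p ≠ p} := hfin
  have hinv : ∀ g ∈ zpowers u, ∀ p, φ y p ≠ p → φ y (φ g p) ≠ φ g p := by
    rintro _ ⟨j, rfl⟩ p hp h
    apply hp
    have h1 : Commute (u ^ j) y := hc.zpow_left j
    have h2 : φ y (φ (u ^ j) p) = φ (u ^ j) (φ y p) := by
      rw [← Equiv.Perm.mul_apply, ← Equiv.Perm.mul_apply, ← map_mul, ← map_mul, h1.eq]
    have h3 : φ (u ^ j) (φ y p) = φ (u ^ j) p := h2.symm.trans h
    exact (φ (u ^ j)).injective h3
  let _ : MulAction (zpowers u) {p : ℕ | φ y p ≠ p} :=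
    { smul := fun g p => ⟨φ (g : Suz) p, hinv g g.2 p p.2⟩
      one_smul := fun p => Subtype.ext (by
        show φ ((1 : zpowers u) : Suz) p = p
        rw [Subgroup.coe_one, map_one]
        rfl)
      mul_smul := fun g h p => Subtype.ext (by
        show φ ((g * h : zpowers u) : Suz) p = φ (g : Suz) (φ (h : Suz) p)
        rw [Subgroup.coe_mul, map_mul]
        rfl) }
  have : Fact (Nat.Prime 11) := ⟨by norm_num⟩
  have hp : IsPGroup 11 (zpowers u) := IsPGroup.of_card (n := 1) (by rw [Nat.card_zpowers, hu, pow_one])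
  have h1 := hp.card_modEq_card_fixedPoints {p : ℕ | φ y p ≠ p}
  have h2 : MulAction.fixedPoints (zpowers u) {p : ℕ | φ y p ≠ p} = ∅ := by
    rw [Set.eq_empty_iff_forall_notMem]
    rintro ⟨p, hp⟩ h
    have h3 : (⟨φ u p, hinv u (mem_zpowers u) p hp⟩ : {p : ℕ | φ y p ≠ p}) = ⟨p, hp⟩ := h ⟨u, mem_zpowers u⟩
    exact eleven_fpf hu (hlt p hp) (congrArg Subtype.val h3)
  rw [h2] at h1
  have h3 : Nat.card (∅ : Set {p : ℕ | φ y p ≠ p}) = 0 := by simp
  rw [h3] at h1
  rw [← hm]
  exact (Nat.modEq_zero_iff_dvd).1 h1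

/-! ### a Sylow 5-subgroup -/

def X : List Suz.Gen := [.a, .b]
def W : List Suz.Gen := [.c, .b, .a, .d, .c, .b, .a, .b, .c, .d, .c, .d, .b, .c, .e]

/-- the word `X ^ i W ^ j` -/
def xw (i j : ℕ) : List Suz.Gen := rp X i ++ rp W j

/-- the check of the number of moved points -/
noncomputable def chk (i j : ℕ) : Bool :=
  seqB (moved 11 (wd (xw i j))) fun M => seqB (pc 11 M) fun m =>
    and (Nat.beq (Nat.shiftRight M 1782) 0) (or (Nat.beq m 1780) (Nat.beq m 1770))

theorem chk_spec {i j : ℕ} (h : chk i j = true) : (∀ p, φ (el (xw i j)) p ≠ p → p < 1782) ∧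
    ({p : ℕ | φ (el (xw i j)) p ≠ p}.ncard = 1780 ∨ {p : ℕ | φ (el (xw i j)) p ≠ p}.ncard = 1770) := by
  unfold chk at h
  rw [seqB_eq, seqB_eq, Bool.and_eq_true, Bool.or_eq_true] at h
  obtain ⟨h1, h2⟩ := h
  have h3 : ∀ p, φ (el (xw i j)) p ≠ p ↔ (moved 11 (wd (xw i j))).testBit p = true := by
    intro p
    rw [φ_el]
    by_cases hp : p < 2 ^ 11
    · exact (testBit_moved (wd_ok _) hp).symm
    · have h4 : wperm (wd (xw i j)) p = p := wperm_eq_of_le (wd_ok _) (by omega)
      have h5 : (moved 11 (wd (xw i j))).testBit p = false := by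
        have h6 := congrArg (fun x => Nat.testBit x (p - 1782)) (Nat.eq_of_beq_eq_true h1)
        simp only [Nat.zero_testBit] at h6
        have h7 : (Nat.shiftRight (moved 11 (wd (xw i j))) 1782).testBit (p - 1782) =
            (moved 11 (wd (xw i j))).testBit (1782 + (p - 1782)) := Nat.testBit_shiftRight _
        rw [h7] at h6
        rwa [show 1782 + (p - 1782) = p by omega] at h6
      rw [h4, h5]
      simp
  have h8 : {p : ℕ | φ (el (xw i j)) p ≠ p} = {p | (moved 11 (wd (xw i j))).testBit p = true} := by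
    ext p
    exact h3 p
  have h9 : Nat.beq (Nat.shiftRight (moved 11 (wd (xw i j))) (Nat.pow 2 11)) 0 = true := by
    have h10 : (moved 11 (wd (xw i j))) >>> 1782 = 0 := Nat.eq_of_beq_eq_true h1
    have h11 : (moved 11 (wd (xw i j))) >>> (2 ^ 11) = 0 := by
      rw [show 2 ^ 11 = 1782 + 266 by norm_num, Nat.shiftRight_add, h10]
      exact Nat.zero_shiftRight _
    have h12 : Nat.shiftRight (moved 11 (wd (xw i j))) (Nat.pow 2 11) = 0 := h11
    rw [h12]
    rfl
  refine ⟨?_, ?_⟩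
  · intro p hp
    rw [h3] at hp
    by_contra hcon
    have h6 := congrArg (fun x => Nat.testBit x (p - 1782)) (Nat.eq_of_beq_eq_true h1)
    simp only [Nat.zero_testBit] at h6
    have h7 : (Nat.shiftRight (moved 11 (wd (xw i j))) 1782).testBit (p - 1782) =
        (moved 11 (wd (xw i j))).testBit (1782 + (p - 1782)) := Nat.testBit_shiftRight _
    rw [h7, show 1782 + (p - 1782) = p by omega, hp] at h6
    exact absurd h6 (by simp)
  · rw [h8]
    rcases h2 with h2 | h2
    · exact Or.inl (ncard_testBit h9 h2)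
    · exact Or.inr (ncard_testBit h9 h2)

theorem chk_all : ([(1, 0), (0, 1), (1, 1), (1, 2), (1, 3), (1, 4)].all fun x => chk x.1 x.2) = true := by
  decide +kernel

theorem X5 : el X ^ 5 = 1 := el_pow (by decide +kernel)

theorem W5 : el W ^ 5 = 1 := el_pow (by decide +kernel)

theorem XW : Commute (el X) (el W) := by
  show el X * el W = el W * el X
  rw [← el_append, ← el_append]
  exact el_eq (by decide +kernel)

theorem el_xw (i j : ℕ) : el (xw i j) = el X ^ i * el W ^ j := by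
  rw [xw, el_append, el_rp, el_rp]

theorem X_order : orderOf (el X) = 5 := orderOf_eq_prime (hp := ⟨by norm_num⟩) X5 (el_ne 1 (by decide +kernel))

theorem W_order : orderOf (el W) = 5 := orderOf_eq_prime (hp := ⟨by norm_num⟩) W5 (el_ne 1 (by decide +kernel))

theorem W_ne (c : ℕ) (hc : c < 5) : el W ≠ el X ^ c := by
  intro h
  rw [← el_rp] at h
  have h1 : ∀ p, φ (el W) p = φ (el (rp X c)) p := fun p => by rw [h]
  have h2 : ∀ p, ptWord (wd W) p = ptWord (wd (rp X c)) p := fun p => by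
    have := h1 p
    rwa [φ_el, φ_el, ← ptWord_eq (wd_ok W), ← ptWord_eq (wd_ok (rp X c))] at this
  have h3 : ([0, 1, 2, 3, 4].any fun c => [0, 1, 2, 3, 4, 20, 100, 500, 1000, 1500].all fun p => Nat.beq (ptWord (wd W) p) (ptWord (wd (rp X c)) p)) =
      false := by decide +kernel
  rw [List.any_eq_false] at h3
  refine h3 c ?_ ?_
  · simp only [List.mem_cons, List.not_mem_nil, or_false]
    omega
  · rw [List.all_eq_true]
    intro p _
    rw [h2]
    exact Nat.beq_refl _

/-- the subgroup `⟨X, W⟩` -/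
def E : Subgroup Suz where
  carrier := {g | ∃ i j : ℕ, g = el X ^ i * el W ^ j}
  mul_mem' := by
    rintro _ _ ⟨i, j, rfl⟩ ⟨k, l, rfl⟩
    refine ⟨i + k, j + l, ?_⟩
    have h : el W ^ j * el X ^ k = el X ^ k * el W ^ j := ((XW.pow_pow k j).eq).symm
    rw [pow_add, pow_add]
    calc el X ^ i * el W ^ j * (el X ^ k * el W ^ l) = el X ^ i * (el W ^ j * el X ^ k) * el W ^ l := by group
      _ = el X ^ i * (el X ^ k * el W ^ j) * el W ^ l := by rw [h]
      _ = _ := by group
  one_mem' := ⟨0, 0, by rw [pow_zero, pow_zero, mul_one]⟩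
  inv_mem' := by
    rintro _ ⟨i, j, rfl⟩
    refine ⟨4 * i, 4 * j, ?_⟩
    have h : el W ^ j * el X ^ (4 * i) = el X ^ (4 * i) * el W ^ j := ((XW.pow_pow (4 * i) j).eq).symm
    rw [inv_eq_iff_mul_eq_one]
    calc el X ^ i * el W ^ j * (el X ^ (4 * i) * el W ^ (4 * j)) =
        el X ^ i * (el W ^ j * el X ^ (4 * i)) * el W ^ (4 * j) := by group
      _ = el X ^ i * (el X ^ (4 * i) * el W ^ j) * el W ^ (4 * j) := by rw [h]
      _ = el X ^ (5 * i) * el W ^ (5 * j) := by
        rw [show 5 * i = i + 4 * i by ring, show 5 * j = j + 4 * j by ring, pow_add, pow_add]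
        group
      _ = 1 := by rw [pow_mul, pow_mul, X5, W5, one_pow, one_pow, one_mul]

theorem pow_mod {g : Suz} (hg : g ^ 5 = 1) (n : ℕ) : g ^ n = g ^ (n % 5) := by
  conv_lhs => rw [← Nat.div_add_mod n 5]
  rw [pow_add, pow_mul, hg, one_pow, one_mul]

theorem eq_zero {i j : ℕ} (h : el X ^ i * el W ^ j = 1) : i % 5 = 0 ∧ j % 5 = 0 := by
  by_cases hj : j % 5 = 0
  · rw [pow_mod W5 j, hj, pow_zero, mul_one] at h
    refine ⟨?_, hj⟩
    have := orderOf_dvd_of_pow_eq_one h
    rw [X_order] at this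
    exact Nat.mod_eq_zero_of_dvd this
  · exfalso
    -- `W` is a power of `X`
    obtain ⟨k, hk⟩ : ∃ k, (j * k) % 5 = 1 := by
      have h5 : j % 5 < 5 := Nat.mod_lt _ (by norm_num)
      have : j % 5 = 1 ∨ j % 5 = 2 ∨ j % 5 = 3 ∨ j % 5 = 4 := by omega
      rcases this with h | h | h | h
      · exact ⟨1, by omega⟩
      · exact ⟨3, by omega⟩
      · exact ⟨2, by omega⟩
      · exact ⟨4, by omega⟩
    have h1 : el X ^ (i * k) * el W ^ (j * k) = 1 := by
      rw [pow_mul, pow_mul, ← (XW.pow_pow i j).mul_pow, h, one_pow]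
    rw [pow_mod W5 (j * k), hk, pow_one] at h1
    have h2 : el W = el X ^ (4 * (i * k)) := by
      have h3 : el X ^ (4 * (i * k)) * el X ^ (i * k) = 1 := by
        rw [← pow_add, show 4 * (i * k) + i * k = 5 * (i * k) by ring, pow_mul, X5, one_pow]
      calc el W = (el X ^ (4 * (i * k)) * el X ^ (i * k)) * el W := by rw [h3, one_mul]
        _ = el X ^ (4 * (i * k)) * (el X ^ (i * k) * el W) := by group
        _ = _ := by rw [h1, mul_one]
    rw [pow_mod X5] at h2
    exact W_ne _ (Nat.mod_lt _ (by norm_num)) h2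

theorem card_E : 25 ≤ Nat.card E := by
  let f : Fin 5 × Fin 5 → E := fun x => ⟨el X ^ (x.1 : ℕ) * el W ^ (x.2 : ℕ), x.1, x.2, rfl⟩
  have hf : Function.Injective f := by
    rintro ⟨i, j⟩ ⟨k, l⟩ h
    have h1 : el X ^ (i : ℕ) * el W ^ (j : ℕ) = el X ^ (k : ℕ) * el W ^ (l : ℕ) := congrArg Subtype.val h
    have h2 : el X ^ ((i : ℕ) + 4 * k) * el W ^ ((j : ℕ) + 4 * l) = 1 := by
      have hc : el W ^ (j : ℕ) * el X ^ (4 * (k : ℕ)) = el X ^ (4 * (k : ℕ)) * el W ^ (j : ℕ) :=
        ((XW.pow_pow _ _).eq).symm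
      have hc' : el W ^ (l : ℕ) * el X ^ (4 * (k : ℕ)) = el X ^ (4 * (k : ℕ)) * el W ^ (l : ℕ) :=
        ((XW.pow_pow _ _).eq).symm
      calc el X ^ ((i : ℕ) + 4 * k) * el W ^ ((j : ℕ) + 4 * l) =
          el X ^ (i : ℕ) * (el X ^ (4 * (k : ℕ)) * el W ^ (j : ℕ)) * el W ^ (4 * (l : ℕ)) := by
            rw [pow_add, pow_add]; group
        _ = (el X ^ (i : ℕ) * el W ^ (j : ℕ)) * el X ^ (4 * (k : ℕ)) * el W ^ (4 * (l : ℕ)) := by
            rw [← hc]; group
        _ = el X ^ (k : ℕ) * (el W ^ (l : ℕ) * el X ^ (4 * (k : ℕ))) * el W ^ (4 * (l : ℕ)) := by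
            rw [h1]; group
        _ = el X ^ (5 * (k : ℕ)) * el W ^ (5 * (l : ℕ)) := by
            rw [hc', show 5 * (k : ℕ) = k + 4 * k by ring, show 5 * (l : ℕ) = l + 4 * l by ring, pow_add, pow_add]
            group
        _ = 1 := by rw [pow_mul, pow_mul, X5, W5, one_pow, one_pow, one_mul]
    obtain ⟨h3, h4⟩ := eq_zero h2
    have h5 : (i : ℕ) = k := by omega
    have h6 : (j : ℕ) = l := by omega
    exact Prod.ext (Fin.ext h5) (Fin.ext h6)
  have h1 := Nat.card_le_card_of_injective f hf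
  simpa using h1

theorem conj_E {y : Suz} (hy : orderOf y = 5) : ∃ (g : Suz) (i j : ℕ), g * y * g⁻¹ = el X ^ i * el W ^ j := by
  have : Fact (Nat.Prime 5) := ⟨by norm_num⟩
  have hE : IsPGroup 5 E := by
    rintro ⟨_, i, j, rfl⟩
    refine ⟨1, Subtype.ext ?_⟩
    show (el X ^ i * el W ^ j) ^ 5 ^ 1 = 1
    rw [pow_one, (XW.pow_pow i j).mul_pow, ← pow_mul, ← pow_mul, mul_comm i, mul_comm j, pow_mul, pow_mul, X5, W5,
      one_pow, one_pow, one_mul]
  obtain ⟨P, hP⟩ := hE.exists_le_sylow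
  have hPc : Nat.card P = 25 := by
    rw [P.card_eq_multiplicity, card_Suz]
    have : (448345497600 : ℕ).factorization 5 = 2 := by
      have h1 : (448345497600 : ℕ) = 5 ^ 2 * 17933819904 := by norm_num
      rw [h1, Nat.factorization_mul (by norm_num) (by norm_num), Finsupp.add_apply, Nat.Prime.factorization_pow (by norm_num),
        Finsupp.single_eq_same, Nat.factorization_eq_zero_of_not_dvd (by norm_num)]
    rw [this]
    norm_num
  have hEP : E = (P : Subgroup Suz) := by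
    refine Subgroup.eq_of_le_of_card_ge hP ?_
    rw [show Nat.card ↥(P : Subgroup Suz) = 25 from hPc]
    exact card_E
  have hy5 : IsPGroup 5 (zpowers y) := IsPGroup.of_card (n := 1) (by rw [Nat.card_zpowers, hy, pow_one])
  obtain ⟨Q, hQ⟩ := hy5.exists_le_sylow
  obtain ⟨g, hg⟩ := MulAction.exists_smul_eq Suz Q P
  have h1 : g * y * g⁻¹ ∈ (P : Subgroup Suz) := by
    rw [← hg]
    exact Subgroup.smul_mem_pointwise_smul _ _ _ (hQ (mem_zpowers y))
  rw [← hEP] at h1
  obtain ⟨i, j, h⟩ := h1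
  exact ⟨g, i, j, h⟩

/-- **there is no element of order 55** -/
theorem no_fifty_five : ¬ Has Suz 55 := by
  rintro ⟨g, hg⟩
  have hu : orderOf (g ^ 5) = 11 := by
    rw [orderOf_pow' _ (by norm_num), hg]
    norm_num
  have hy : orderOf (g ^ 11) = 5 := by
    rw [orderOf_pow' _ (by norm_num), hg]
    norm_num
  obtain ⟨c, i, j, hc⟩ := conj_E hy
  have hu' : orderOf (c * g ^ 5 * c⁻¹) = 11 := by
    have h3 : c * g ^ 5 * c⁻¹ = MulAut.conj c (g ^ 5) := by simp
    rw [h3, MulEquiv.orderOf_eq, hu]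
  have hcm : Commute (c * g ^ 5 * c⁻¹) (el X ^ i * el W ^ j) := by
    rw [← hc]
    show c * g ^ 5 * c⁻¹ * (c * g ^ 11 * c⁻¹) = c * g ^ 11 * c⁻¹ * (c * g ^ 5 * c⁻¹)
    group
  have key : ∀ a b : ℕ, chk a b = true → ∀ k : ℕ, (el X ^ i * el W ^ j) ^ k = el X ^ a * el W ^ b → False := by
    intro a b hab k hk
    obtain ⟨h1, h2⟩ := chk_spec hab
    rw [el_xw, ← hk] at h1 h2
    have h3 := hcm.pow_right k
    rcases h2 with h2 | h2
    · have := not_comm hu' h3 h2 h1
      omega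
    · have := not_comm hu' h3 h2 h1
      omega
  have hall := List.all_eq_true.1 chk_all
  have hpow : ∀ k : ℕ, (el X ^ i * el W ^ j) ^ k = el X ^ ((i * k) % 5) * el W ^ ((j * k) % 5) := by
    intro k
    rw [(XW.pow_pow i j).mul_pow, ← pow_mul, ← pow_mul, pow_mod X5, pow_mod W5]
  have hinv : ∀ n : ℕ, n % 5 ≠ 0 → ∃ k, (n * k) % 5 = 1 := by
    intro n hn
    have h5 : n % 5 < 5 := Nat.mod_lt _ (by norm_num)
    have : n % 5 = 1 ∨ n % 5 = 2 ∨ n % 5 = 3 ∨ n % 5 = 4 := by omega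
    rcases this with h | h | h | h
    · exact ⟨1, by omega⟩
    · exact ⟨3, by omega⟩
    · exact ⟨2, by omega⟩
    · exact ⟨4, by omega⟩
  by_cases hi : i % 5 = 0
  · by_cases hj : j % 5 = 0
    · -- `y = 1`
      rw [pow_mod X5 i, pow_mod W5 j, hi, hj, pow_zero, pow_zero, mul_one] at hc
      have h1 : g ^ 11 = 1 := by
        have := congrArg (fun x => c⁻¹ * x * c) hc
        simpa [mul_assoc] using this
      rw [h1, orderOf_one] at hy
      omega
    · obtain ⟨k, hk⟩ := hinv j hj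
      refine key 0 1 (hall (0, 1) (by simp)) k ?_
      rw [hpow, hk, Nat.mul_mod, hi]
      simp
  · obtain ⟨k, hk⟩ := hinv i hi
    have h5 : (j * k) % 5 < 5 := Nat.mod_lt _ (by norm_num)
    refine key 1 ((j * k) % 5) (hall (1, (j * k) % 5) ?_) k ?_
    · generalize (j * k) % 5 = l at h5
      interval_cases l <;> simp
    · rw [hpow, hk]

end Cfsg.Agent.H998.SpAlt.SuzDat
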